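import Cfsg.Agent.Lib.JTwoUniq.Six
import Cfsg.Agent.Lib.HJType.Hyp
import Cfsg.Agent.Lib.HJType.Order

/-!
Groups of Hall-Janko type are isomorphic to J2.
-/

set_option autoImplicit false
set_option maxRecDepth 100000

namespace CfsgLib.JTwoUniq

open Coset CfsgLib.HJType Subgroup

theorem main_checks : pev [2] ≠ pev [] ∧ pev [0] ≠ pev [2] ∧ pev [4, 4] = pev [] := by
  refine ⟨?_, ?_, ?_⟩ <;> decide +kernel

/-- The uniqueness of the Hall-Janko group. -/
theorem iso_j2 {G : Type*} [Group G] [Finite G] {z : G} {Q : Subgroup G} (st : Setup z Q)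
    (hcl : ∃ x y : G, orderOf x = 2 ∧ orderOf y = 2 ∧ ¬ IsConj x y) : Nonempty (G ≃* Cfsg.Spor.J2) := by
  obtain ⟨t, P⟩ := st.exists_pair hcl
  obtain ⟨V, B, K, n⟩ := P.exists_nData
  obtain ⟨f, c, h6, h9, h1⟩ := exists_aligned n
  obtain ⟨τ, d⟩ := exists_tau n c h6 h9 h1
  have hcom := rel_common c d
  have split : ∀ {w0 w : List ℕ}, w ∈ Data.relC ++ Data.relD ++ Data.relT ++ [w0] →
      ev (ext12 f τ) w0 = 1 → ev (ext12 f τ) w = 1 := by
    intro w0 w hw h
    rcases List.mem_append.1 hw with hw | hw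
    · exact hcom w hw
    · rw [List.mem_singleton.1 hw]; exact h
  rcases last_relation n c h6 h9 h1 d with hJ | hK
  · exact iso_of_relations n.dd.card_G (fun w hw => split hw hJ)
      (show f 0 ≠ 1 by rw [c.f0]; exact st.z_ne)
  · exfalso
    have hτ : τ ∈ centralizer ({z} : Set G) :=
      mem_of_relationsK (f := ext12 f τ) (fun w hw => split hw hK) fun i hi => by
        rw [show ext12 f τ i = f i by simp [ext12, hi]]
        exact c.mem hi
    have e : f 1 = f 0 := by
      rw [← d.onZ, c.f0, st.zc hτ, mul_inv_cancel_right]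
    exact main_checks.2.1 ((c.code_eq st.hH (v := [2]) (w := [0]) (by simp) (by simp)
      (by simpa [ev, lval] using e)).symm)

end CfsgLib.JTwoUniq
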