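import Mathlib
import Cfsg.Agent.Lib.HJType.Frame
import Cfsg.Agent.Lib.HJType.Local
import Cfsg.Agent.Lib.Invol.ZStarFinal
import Cfsg.Agent.Lib.Invol.Isolated
import Cfsg.Agent.Lib.Cores.Basic

/-!
The involution is not weakly closed in the extraspecial subgroup when there are exactly two classes of
involutions. The local lemmas of `Lib/HJType` are repeated here without the hypothesis on weak closure.
-/

set_option autoImplicit false
set_option linter.style.haveILetI false
set_option linter.unusedSectionVars false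

namespace CfsgLib.JTwoUniq

open Subgroup Cfsg CfsgLib.HJType CfsgLib.InvolChar.MinusThirtyTwo CfsgLib.PGroup.MinusThirtyTwoAut

variable {G : Type*} [Group G]

/-- The centralizer of the involution and its extraspecial normal subgroup. -/
structure Pre (z : G) (Q : Subgroup G) : Prop where
  hz : orderOf z = 2
  hQH : Q ≤ centralizer {z}
  hnorm : centralizer {z} ≤ normalizer (Q : Set G)
  hE : IsExtraspecial 2 Q
  h32 : Nat.card Q = 32
  hH : Nat.card (centralizer ({z} : Set G)) = 1920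
  hself : ∀ x ∈ centralizer ({z} : Set G), (∀ q ∈ Q, x * q = q * x) → x ∈ Q

variable {z : G} {Q : Subgroup G}

namespace Pre

variable (st : Pre z Q)
include st

theorem zz : z * z = 1 := by rw [← pow_two, ← st.hz, pow_orderOf_eq_one]

theorem z_ne : z ≠ 1 := fun h => by
  have := st.hz
  rw [h, orderOf_one] at this
  omega

theorem zc {h : G} (hh : h ∈ centralizer ({z} : Set G)) : h * z = z * h :=
  mem_centralizer_singleton_iff.1 hh

theorem z_mem_H : z ∈ centralizer ({z} : Set G) := mem_centralizer_singleton_iff.2 rfl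

theorem z_mem : z ∈ Q := st.hself z st.z_mem_H fun q hq => (st.zc (st.hQH hq)).symm

theorem base [Finite G] : Base (⟨z, st.z_mem⟩ : Q) := by
  obtain ⟨w, b⟩ := exists_base st.hE st.h32
  have h1 : (⟨z, st.z_mem⟩ : Q) ∈ center Q := mem_center_iff.2 fun q => Subtype.ext (st.zc (st.hQH q.2))
  rcases b.hcen _ h1 with e | e
  · exact absurd (congrArg Subtype.val e) st.z_ne
  · exact e ▸ b

/-- Conjugation on `Q`. -/
noncomputable def conjQ : ↥(centralizer ({z} : Set G)) →* MulAut Q :=
  (normalizerMonoidHom Q).comp (Subgroup.inclusion st.hnorm)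

theorem conjQ_apply (h : ↥(centralizer ({z} : Set G))) (q : Q) :
    ((st.conjQ h q : Q) : G) = (h : G) * q * (h : G)⁻¹ := rfl

theorem conj_mem {h q : G} (hh : h ∈ centralizer ({z} : Set G)) (hq : q ∈ Q) : h * q * h⁻¹ ∈ Q :=
  (mem_normalizer_iff.1 (st.hnorm hh) q).1 hq

theorem exists_five [Finite G] : ∃ f ∈ centralizer ({z} : Set G), orderOf f = 5 := by
  haveI : Fact (Nat.Prime 5) := ⟨by norm_num⟩
  obtain ⟨f, hf⟩ := exists_prime_orderOf_dvd_card' (G := centralizer ({z} : Set G)) 5 (by rw [st.hH]; norm_num)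
  exact ⟨f, f.2, by rw [orderOf_coe, hf]⟩

theorem not_mem_of_order_five [Finite G] {f : G} (hf : orderOf f = 5) : f ∉ Q := fun h => by
  have := Subgroup.orderOf_dvd_natCard Q h
  rw [st.h32, hf] at this
  norm_num at this

theorem minus [Finite G] : Minus (⟨z, st.z_mem⟩ : Q) := by
  obtain ⟨f, hfH, hf⟩ := st.exists_five
  refine minus_of_five st.base (st.conjQ ⟨f, hfH⟩) ?_ fun h => st.not_mem_of_order_five hf ?_
  · rw [← map_pow]
    have : (⟨f, hfH⟩ : ↥(centralizer ({z} : Set G))) ^ 5 = 1 := Subtype.ext (by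
      rw [Subgroup.coe_pow, ← hf, pow_orderOf_eq_one, Subgroup.coe_one])
    rw [this, map_one]
  · refine st.hself f hfH fun q hq => ?_
    have e : (st.conjQ ⟨f, hfH⟩ ⟨q, hq⟩ : Q) = ⟨q, hq⟩ := by rw [h]; rfl
    have e' : f * q * f⁻¹ = q := congrArg Subtype.val e
    exact mul_inv_eq_iff_eq_mul.1 e'

theorem nonempty_frame [Finite G] : Nonempty (Frame z Q) := by
  classical
  set zq : Q := ⟨z, st.z_mem⟩ with hzq
  have b : Minus zq := st.minus
  have hc5 := card_pts b
  let e : pts zq ≃ Fin 5 := (Finite.equivFin _).trans (finCongr hc5)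
  let r : Fin 5 → Q := fun i => (e.symm i).2.choose
  have hr : ∀ i, Inv' zq (r i) ∧ ((r i : Q) : Q ⧸ center Q) = (e.symm i : Q ⧸ center Q) :=
    fun i => (e.symm i).2.choose_spec
  let π : ↥(centralizer ({z} : Set G)) →* Equiv.Perm (Fin 5) :=
    (e.permCongrHom.toMonoidHom.comp (CfsgLib.PGroup.MinusThirtyTwoAut.perm b)).comp st.conjQ
  have hπ : ∀ h i, π h i = e (CfsgLib.PGroup.MinusThirtyTwoAut.perm b (st.conjQ h) (e.symm i)) :=
    fun h i => rfl
  have hker : ∀ h, π h = 1 ↔ (h : G) ∈ Q := by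
    intro h
    have h1 : π h = 1 ↔ st.conjQ h ∈ (CfsgLib.PGroup.MinusThirtyTwoAut.perm b).ker := by
      rw [MonoidHom.mem_ker]
      show e.permCongrHom _ = 1 ↔ _
      exact ⟨fun hh => e.permCongrHom.injective (hh.trans (map_one _).symm), fun hh => by rw [hh, map_one]⟩
    rw [h1, ker_perm b]
    constructor
    · rintro ⟨q, hq⟩
      have hm : (q : G)⁻¹ * h ∈ Q := by
        refine st.hself _ (mul_mem (inv_mem (st.hQH q.2)) h.2) fun w hw => ?_
        have e1 : (h : G) * w * (h : G)⁻¹ = q * w * (q : G)⁻¹ := by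
          have := congrArg (fun φ : MulAut Q => ((φ ⟨w, hw⟩ : Q) : G)) hq
          simpa [conjQ_apply] using this.symm
        calc (q : G)⁻¹ * h * w = (q : G)⁻¹ * ((h : G) * w * (h : G)⁻¹) * h := by group
          _ = _ := by rw [e1]; group
      simpa using mul_mem q.2 hm
    · intro hh
      exact ⟨⟨h, hh⟩, MulEquiv.ext fun w => Subtype.ext rfl⟩
  have hrange : π.range = alternatingGroup (Fin 5) := by
    refine Equiv.Perm.eq_alternatingGroup_of_index_eq_two ?_
    have h1 := card_mul_index π.ker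
    rw [index_ker, st.hH] at h1
    have h2 : Nat.card π.ker = 32 := by
      rw [← st.h32, ← Nat.card_congr (Subgroup.subgroupOfEquivOfLe st.hQH).toEquiv]
      have : π.ker = Q.subgroupOf (centralizer ({z} : Set G)) :=
        Subgroup.ext fun h => by rw [MonoidHom.mem_ker, hker, mem_subgroupOf]
      rw [this]
    have h3 := card_mul_index π.range
    rw [h2] at h1
    rw [Nat.card_perm, Nat.card_fin] at h3
    rw [show Nat.factorial 5 = 120 from rfl] at h3
    have h60 : Nat.card π.range = 60 := by omega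
    rw [h60] at h3
    omega
  refine ⟨{
    x := fun i => (r i : G)
    p := fun g => if hg : g ∈ centralizer ({z} : Set G) then π ⟨g, hg⟩ else 1
    hx := fun i => ⟨(r i).2, congrArg Subtype.val (hr i).1.1, fun h => (hr i).1.2.1 (Subtype.ext h),
      fun h => (hr i).1.2.2 (Subtype.ext h)⟩
    hall := ?_, huniq := ?_, hnc := ?_, hmul := ?_, hact := ?_, hker := ?_, hsign := ?_, hsurj := ?_ }⟩
  · intro u hu hu2 hu1 huz
    have hI : Inv' zq ⟨u, hu⟩ :=
      ⟨Subtype.ext hu2, fun h => hu1 (congrArg Subtype.val h), fun h => huz (congrArg Subtype.val h)⟩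
    refine ⟨e ⟨_, _, hI, rfl⟩, ?_⟩
    have h := (hr (e ⟨_, _, hI, rfl⟩)).2
    rw [Equiv.symm_apply_apply] at h
    rcases (mk_eq_iff b).1 h with h' | h'
    · exact Or.inl (congrArg Subtype.val h')
    · exact Or.inr (congrArg Subtype.val h')
  · intro i j hij
    have h : ((r i : Q) : Q ⧸ center Q) = (r j : Q) := by
      rw [mk_eq_iff b]
      rcases hij with h | h
      · exact Or.inl (Subtype.ext h)
      · exact Or.inr (Subtype.ext h)
    rw [(hr i).2, (hr j).2] at h
    exact e.symm.injective (Subtype.ext h)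
  · intro i j hij hc
    have h := eq_of_commute b (hr i).1 (hr j).1 (Subtype.ext hc)
    apply hij
    have h' : ((r i : Q) : Q ⧸ center Q) = (r j : Q) := (mk_eq_iff b).2 h
    rw [(hr i).2, (hr j).2] at h'
    exact e.symm.injective (Subtype.ext h')
  · intro h hh k hk
    rw [dif_pos hh, dif_pos hk, dif_pos (mul_mem hh hk), ← map_mul]
    rfl
  · intro h hh i
    rw [dif_pos hh]
    have h1 : (((st.conjQ ⟨h, hh⟩ (r i) : Q)) : Q ⧸ center Q) = (r (π ⟨h, hh⟩ i) : Q) := by
      rw [(hr (π ⟨h, hh⟩ i)).2, hπ, Equiv.symm_apply_apply, ← ind_mk, (hr i).2]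
      rfl
    rcases (mk_eq_iff b).1 h1.symm with h2 | h2
    · exact Or.inl (congrArg Subtype.val h2)
    · exact Or.inr (congrArg Subtype.val h2)
  · intro h hh
    rw [dif_pos hh]
    exact hker ⟨h, hh⟩
  · intro h hh
    rw [dif_pos hh, ← Equiv.Perm.mem_alternatingGroup, ← hrange]
    exact ⟨_, rfl⟩
  · intro σ hσ
    rw [← Equiv.Perm.mem_alternatingGroup, ← hrange] at hσ
    obtain ⟨h, rfl⟩ := hσ
    exact ⟨h, h.2, by rw [dif_pos h.2]⟩

end Pre

namespace Pre

variable (st : Pre z Q)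
include st

theorem qz {a : G} (ha : a ∈ Q) : a * z = z * a := st.zc (st.hQH ha)

theorem qz' {a : G} (ha : a ∈ centralizer ({z} : Set G)) (b : G) : a * (z * b) = z * (a * b) := by
  rw [← mul_assoc, st.zc ha, mul_assoc]

theorem zzc (u : G) : z * (z * u) = u := by rw [← mul_assoc, st.zz, one_mul]

theorem anti_symm {a b : G} (h : Anti z a b) : Anti z b a := by
  unfold Anti at h ⊢
  rw [h, st.zzc]

theorem comm_cases [Finite G] {a b : G} (ha : a ∈ Q) (hb : b ∈ Q) : a * b = b * a ∨ Anti z a b := by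
  rcases CfsgLib.InvolChar.MinusThirtyTwo.comm_cases st.base ⟨a, ha⟩ ⟨b, hb⟩ with h | h
  · exact Or.inl (congrArg Subtype.val h)
  · exact Or.inr (congrArg Subtype.val h)

theorem sq_cases [Finite G] {a : G} (ha : a ∈ Q) : a * a = 1 ∨ a * a = z := by
  rcases CfsgLib.InvolChar.MinusThirtyTwo.sq_cases st.base ⟨a, ha⟩ with h | h
  · exact Or.inl (congrArg Subtype.val h)
  · exact Or.inr (congrArg Subtype.val h)

theorem comm_of_anti_anti {a b c : G} (ha : a ∈ Q) (h1 : Anti z a c) (h2 : Anti z b c) :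
    a * b * c = c * (a * b) := by
  unfold Anti at h1 h2
  rw [mul_assoc, h2, ← mul_assoc, st.qz ha, mul_assoc, ← mul_assoc a c, h1, mul_assoc, mul_assoc, st.zzc]

theorem anti_of_anti_comm {a b c : G} (h1 : Anti z a c) (h2 : b * c = c * b) : Anti z (a * b) c := by
  unfold Anti at h1 ⊢
  rw [mul_assoc, h2, ← mul_assoc, h1, mul_assoc, mul_assoc]

theorem anti_of_comm_anti {a b c : G} (ha : a ∈ Q) (h1 : a * c = c * a) (h2 : Anti z b c) :
    Anti z (a * b) c := by
  unfold Anti at h2 ⊢
  rw [mul_assoc, h2, st.qz' (st.hQH ha), ← mul_assoc a c, h1, mul_assoc]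

theorem not_anti_self {a : G} : ¬ Anti z a a := fun h => st.z_ne (mul_eq_right.1 h.symm)

variable (F : Frame z Q)

theorem anti_x [Finite G] {i j : Fin 5} (h : i ≠ j) : Anti z (F.x i) (F.x j) :=
  (st.comm_cases (F.hx i).1 (F.hx j).1).resolve_left (F.hnc i j h)

theorem zx_mem (i : Fin 5) : z * F.x i ∈ Q := mul_mem st.z_mem (F.hx i).1

theorem inPair_mem {i : Fin 5} {u : G} (h : F.InPair i u) : u ∈ Q := by
  rcases h with rfl | rfl
  · exact (F.hx i).1
  · exact st.zx_mem F i

theorem inPair_z {i : Fin 5} {u : G} (h : F.InPair i u) : F.InPair i (z * u) := by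
  rcases h with rfl | rfl
  · exact Or.inr rfl
  · exact Or.inl (st.zzc _)

theorem inPair_mul_self {i : Fin 5} {u u' : G} (h : F.InPair i u) (h' : F.InPair i u') :
    u * u' = 1 ∨ u * u' = z := by
  have e := (F.hx i).2.1
  have ec := st.qz (F.hx i).1
  rcases h with rfl | rfl <;> rcases h' with rfl | rfl
  · exact Or.inl e
  · exact Or.inr (by rw [← mul_assoc, ec, mul_assoc, e, mul_one])
  · exact Or.inr (by rw [mul_assoc, e, mul_one])
  · exact Or.inl (by rw [mul_assoc, ← mul_assoc (F.x i), ec, mul_assoc z (F.x i), e, mul_one, st.zz])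

/-- The product of representatives of four distinct pairs lies in the fifth pair. -/
theorem four [Finite G] {a b c d i : Fin 5} (hab : a ≠ b) (hac : a ≠ c) (had : a ≠ d) (hbc : b ≠ c)
    (hbd : b ≠ d) (hcd : c ≠ d) (hia : i ≠ a) (hib : i ≠ b) (hic : i ≠ c) (hid : i ≠ d) :
    F.InPair i (F.x a * F.x b * (F.x c * F.x d)) := by
  set w := F.x a * F.x b with hw
  set w' := F.x c * F.x d with hw'
  have hwQ : w ∈ Q := mul_mem (F.hx a).1 (F.hx b).1
  have hwQ' : w' ∈ Q := mul_mem (F.hx c).1 (F.hx d).1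
  have hwc := st.comm_of_anti_anti (F.hx a).1 (st.anti_x F hac) (st.anti_x F hbc)
  have hwd := st.comm_of_anti_anti (F.hx a).1 (st.anti_x F had) (st.anti_x F hbd)
  have hw'a := st.comm_of_anti_anti (F.hx c).1 (st.anti_x F (Ne.symm hac)) (st.anti_x F (Ne.symm had))
  have hw'b := st.comm_of_anti_anti (F.hx c).1 (st.anti_x F (Ne.symm hbc)) (st.anti_x F (Ne.symm hbd))
  rw [← hw] at hwc hwd
  rw [← hw'] at hw'a hw'b
  have hww' : w * w' = w' * w := by
    rw [hw', ← mul_assoc, hwc, mul_assoc, hwd, ← mul_assoc]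
  have hA : ∀ m, m = a ∨ m = b ∨ m = c ∨ m = d → Anti z (w * w') (F.x m) := by
    rintro m (rfl | rfl | rfl | rfl)
    · exact st.anti_of_anti_comm (st.anti_of_comm_anti (F.hx m).1 rfl (st.anti_x F (Ne.symm hab))) hw'a
    · exact st.anti_of_anti_comm (st.anti_of_anti_comm (st.anti_x F hab) rfl) hw'b
    · exact st.anti_of_comm_anti hwQ hwc (st.anti_of_comm_anti (F.hx m).1 rfl (st.anti_x F (Ne.symm hcd)))
    · exact st.anti_of_comm_anti hwQ hwd (st.anti_of_anti_comm (st.anti_x F hcd) rfl)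
  have hsq : ∀ p q : Fin 5, p ≠ q → F.x p * F.x q * (F.x p * F.x q) = z := fun p q h => by
    have e : F.x q * F.x p = z * (F.x p * F.x q) := st.anti_x F (Ne.symm h)
    calc F.x p * F.x q * (F.x p * F.x q) = F.x p * (F.x q * F.x p) * F.x q := by group
      _ = F.x p * (z * (F.x p * F.x q)) * F.x q := by rw [e]
      _ = z * (F.x p * F.x p) * (F.x q * F.x q) := by
          rw [st.qz' (st.hQH (F.hx p).1)]; group
      _ = z := by rw [(F.hx p).2.1, (F.hx q).2.1, mul_one, mul_one]
  have h2 : w * w' * (w * w') = 1 := by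
    calc w * w' * (w * w') = w * (w' * w) * w' := by group
      _ = w * (w * w') * w' := by rw [← hww']
      _ = (w * w) * (w' * w') := by group
      _ = 1 := by rw [hw, hw', hsq a b hab, hsq c d hcd, st.zz]
  have h1 : w * w' ≠ 1 := fun h => st.z_ne (mul_eq_right.1 (by
    have := hA a (Or.inl rfl)
    rw [Anti, h, one_mul, mul_one] at this
    exact this.symm))
  have hz : w * w' ≠ z := fun h => st.z_ne (mul_eq_right.1 (by
    have := hA a (Or.inl rfl)
    rw [Anti, h, st.qz (F.hx a).1] at this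
    exact this.symm))
  obtain ⟨m, hm⟩ := F.hall _ (mul_mem hwQ hwQ') h2 h1 hz
  by_cases hmi : m = i
  · exact hmi ▸ hm
  exfalso
  have hm' : m = a ∨ m = b ∨ m = c ∨ m = d := by
    have : ∀ a b c d i m : Fin 5, a ≠ b → a ≠ c → a ≠ d → b ≠ c → b ≠ d → c ≠ d → i ≠ a → i ≠ b → i ≠ c →
        i ≠ d → m ≠ i → m = a ∨ m = b ∨ m = c ∨ m = d := by decide +kernel
    exact this a b c d i m hab hac had hbc hbd hcd hia hib hic hid hmi
  have h3 := hA m hm'
  rcases hm with h | h <;> rw [h] at h3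
  · exact st.not_anti_self h3
  · unfold Anti at h3
    rw [st.qz' (st.hQH (F.hx m).1), mul_assoc, (F.hx m).2.1, mul_one, st.zz] at h3
    exact st.z_ne h3

/-- An involution of `H` outside `Q`: its permutation. -/
theorem p_invol {v : G} (hv : v ∈ centralizer ({z} : Set G)) (hvQ : v ∉ Q) (h2 : v * v = 1) :
    Equiv.Perm.sign (F.p v) = 1 ∧ F.p v ≠ 1 ∧ F.p v * F.p v = 1 :=
  ⟨F.hsign v hv, fun h => hvQ ((F.hker v hv).1 h),
    by rw [← F.hmul v hv v hv, h2, (F.hker 1 (one_mem _)).2 (one_mem _)]⟩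

theorem conj_inPair {h : G} (hh : h ∈ centralizer ({z} : Set G)) {i : Fin 5} {u : G} (hu : F.InPair i u) :
    F.InPair (F.p h i) (h * u * h⁻¹) := by
  rcases hu with rfl | rfl
  · exact F.hact h hh i
  · have e : h * (z * F.x i) * h⁻¹ = z * (h * F.x i * h⁻¹) := by rw [st.qz' hh, mul_assoc z]
    rw [e]
    exact st.inPair_z F (F.hact h hh i)

theorem conj_pair_mul {h : G} (hh : h ∈ centralizer ({z} : Set G)) (a b : Fin 5) :
    h * (F.x a * F.x b) * h⁻¹ = F.x (F.p h a) * F.x (F.p h b) ∨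
      h * (F.x a * F.x b) * h⁻¹ = z * (F.x (F.p h a) * F.x (F.p h b)) := by
  rw [show h * (F.x a * F.x b) * h⁻¹ = (h * F.x a * h⁻¹) * (h * F.x b * h⁻¹) by group]
  have hc := st.qz' (st.hQH (F.hx (F.p h a)).1)
  rcases F.hact h hh a with e | e <;> rcases F.hact h hh b with e' | e' <;> rw [e, e']
  · exact Or.inl rfl
  · exact Or.inr (hc _)
  · exact Or.inr (mul_assoc _ _ _)
  · exact Or.inl (by rw [mul_assoc, hc, st.zzc])

/-- An involution outside `Q` inverts the products over its moved pairs and centralises its fixed pair. -/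
theorem invol_facts [Finite G] {v : G} (hv : v ∈ centralizer ({z} : Set G)) (hvQ : v ∉ Q) (h2 : v * v = 1)
    {i : Fin 5} (hi : F.p v i = i) :
    v * F.x i = F.x i * v ∧
      ∀ j, F.p v j ≠ j → v * (F.x j * F.x (F.p v j)) * v = z * (F.x j * F.x (F.p v j)) := by
  obtain ⟨hs, hne, hpp⟩ := st.p_invol F hv hvQ h2
  have hvi : v⁻¹ = v := inv_eq_of_mul_eq_one_right h2
  have hinv : ∀ j, F.p v j ≠ j → v * (F.x j * F.x (F.p v j)) * v = z * (F.x j * F.x (F.p v j)) := by
    intro j hj
    set k := F.p v j with hk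
    have hkj : F.x k * F.x j = z * (F.x j * F.x k) := st.anti_x F hj
    have hvk : ∀ e : G, v * F.x j * v = e → v * e * v = F.x j := by
      rintro e rfl
      calc v * (v * F.x j * v) * v = (v * v) * F.x j * (v * v) := by group
        _ = _ := by rw [h2, one_mul, mul_one]
    have hsplit : v * (F.x j * F.x k) * v = (v * F.x j * v) * (v * F.x k * v) := by
      calc v * (F.x j * F.x k) * v = v * F.x j * 1 * F.x k * v := by group
        _ = _ := by rw [← h2]; group
    rw [hsplit]
    rcases F.hact v hv j with e | e <;> rw [hvi, ← hk] at e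
    · rw [e, hvk _ e, hkj]
    · have e' := hvk _ e
      have e'' : v * F.x k * v = z * F.x j := by
        rw [← e', st.qz' hv, mul_assoc z, ← mul_assoc z z, st.zz, one_mul]
      rw [e, e'', mul_assoc, st.qz' (st.hQH (F.hx k).1), st.zzc, hkj]
  refine ⟨?_, hinv⟩
  obtain ⟨j, l, hji, hsji, hli, hsli, hjj, hll, hlj, hlsj, hslj, hslsj, -⟩ := perm_shape _ hs hne hpp i hi
  set k := F.p v j with hk
  set m := F.p v l with hm
  have hfour := st.four F (Ne.symm hjj) (Ne.symm hlj) (Ne.symm hslj) (Ne.symm hlsj) (Ne.symm hslsj)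
    (Ne.symm hll) (Ne.symm hji) (Ne.symm hsji) (Ne.symm hli) (Ne.symm hsli)
  set P := F.x j * F.x k * (F.x l * F.x m) with hP
  have hvP : v * P * v = P := by
    calc v * P * v = (v * (F.x j * F.x k) * v) * (v * (F.x l * F.x m) * v) := by
          rw [show (v * (F.x j * F.x k) * v) * (v * (F.x l * F.x m) * v)
            = v * (F.x j * F.x k) * (v * v) * (F.x l * F.x m) * v by group, h2, hP]
          group
      _ = _ := by
          rw [hinv j hjj, hinv l hll, mul_assoc, st.qz' (st.hQH (mul_mem (F.hx j).1 (F.hx k).1)), st.zzc]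
  have hvP' : v * P = P * v := by
    calc v * P = v * P * (v * v) := by rw [h2, mul_one]
      _ = (v * P * v) * v := by group
      _ = P * v := by rw [hvP]
  rcases hfour with h | h
  · rw [← h]
    exact hvP'
  · rw [h, st.qz' hv, mul_assoc] at hvP'
    exact mul_left_cancel hvP'

/-- The subgroup of elements of `Q` fixed modulo `⟨z⟩` by an element of `H`. -/
def Fix {h : G} (hh : h ∈ centralizer ({z} : Set G)) : Subgroup G where
  carrier := {q | q ∈ Q ∧ (h * q * h⁻¹ = q ∨ h * q * h⁻¹ = z * q)}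
  one_mem' := ⟨one_mem _, Or.inl (by group)⟩
  mul_mem' := fun {a b} ha hb => by
    refine ⟨mul_mem ha.1 hb.1, ?_⟩
    rw [show h * (a * b) * h⁻¹ = (h * a * h⁻¹) * (h * b * h⁻¹) by group]
    rcases ha.2 with e | e <;> rcases hb.2 with e' | e' <;> rw [e, e']
    · exact Or.inl rfl
    · exact Or.inr (st.qz' (st.hQH ha.1) b)
    · exact Or.inr (mul_assoc _ _ _)
    · exact Or.inl (by rw [mul_assoc, st.qz' (st.hQH ha.1), st.zzc])
  inv_mem' := fun {a} ha => by
    refine ⟨inv_mem ha.1, ?_⟩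
    rw [show h * a⁻¹ * h⁻¹ = (h * a * h⁻¹)⁻¹ by group]
    rcases ha.2 with e | e <;> rw [e]
    · exact Or.inl rfl
    · refine Or.inr ?_
      rw [mul_inv_rev, inv_eq_of_mul_eq_one_right st.zz, st.qz (inv_mem ha.1)]

/-- A subgroup of `Q` missing two elements and their quotient has order at most eight. -/
theorem card_le_eight [Finite G] {K : Subgroup G} (hK : K ≤ Q) {a b : G} (ha : a ∈ Q) (hb : b ∈ Q)
    (h1 : a ∉ K) (h2 : b ∉ K) (h3 : a⁻¹ * b ∉ K) : Nat.card K ≤ 8 := by
  classical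
  set K' := K.subgroupOf Q with hK'
  have hc : Nat.card K' = Nat.card K := Nat.card_congr (Subgroup.subgroupOfEquivOfLe hK).toEquiv
  have hm := card_mul_index K'
  rw [st.h32] at hm
  have h3' : 3 ≤ K'.index := by
    have hf : Function.Injective (![((1 : Q) : Q ⧸ K'), ((⟨a, ha⟩ : Q) : Q ⧸ K'), ((⟨b, hb⟩ : Q) : Q ⧸ K')]) := by
      intro s t hst
      fin_cases s <;> fin_cases t <;>
        first
          | rfl
          | (exfalso
             simp [QuotientGroup.eq, hK', mem_subgroupOf] at hst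
             first
               | exact h1 hst
               | exact h2 hst
               | exact h3 hst
               | exact h3 (by simpa using inv_mem hst))
    simpa [Subgroup.index] using Nat.card_le_card_of_injective _ hf
  rw [← hc]
  obtain ⟨n, hn5, hn⟩ : ∃ n ≤ 5, K'.index = 2 ^ n := (Nat.dvd_prime_pow Nat.prime_two).1
    (show K'.index ∣ 2 ^ 5 from ⟨Nat.card K', by rw [mul_comm, hm]; norm_num⟩)
  rw [hn] at hm h3'
  interval_cases n <;> omega

/-- The fixed four-group of an involution outside `Q`. -/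
theorem fixed_of_invol [Finite G] {v : G} (hv : v ∈ centralizer ({z} : Set G)) (hvQ : v ∉ Q) (h2 : v * v = 1)
    {i : Fin 5} (hi : F.p v i = i) :
    Nat.card ↥(Q ⊓ centralizer ({v} : Set G)) = 4 ∧ Nat.card ↥(st.Fix (h := v) hv) ≤ 8 ∧
      ∀ q ∈ Q, v * q = q * v → q = 1 ∨ q = z ∨ q = F.x i ∨ q = z * F.x i := by
  classical
  haveI := Fintype.ofFinite G
  obtain ⟨hs, hne, hpp⟩ := st.p_invol F hv hvQ h2
  obtain ⟨hvx, hinv⟩ := st.invol_facts F hv hvQ h2 hi
  obtain ⟨j, l, hji, hsji, hli, hsli, hjj, hll, hlj, hlsj, hslj, hslsj, -⟩ := perm_shape _ hs hne hpp i hi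
  have hvi : v⁻¹ = v := inv_eq_of_mul_eq_one_right h2
  have hK : Nat.card ↥(st.Fix (h := v) hv) ≤ 8 := by
    refine st.card_le_eight (fun q hq => hq.1) (F.hx j).1 (F.hx l).1 ?_ ?_ ?_
    · rintro ⟨-, h⟩
      have hc := st.conj_inPair F hv (Or.inl rfl : F.InPair j (F.x j))
      refine hjj ?_
      rcases h with h | h <;> rw [h] at hc <;> rcases hc with e | e
      · exact F.huniq _ _ (Or.inl e)
      · exact F.huniq _ _ (Or.inr e)
      · exact F.huniq _ _ (Or.inr (by rw [← e, st.zzc]))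
      · exact F.huniq _ _ (Or.inl (mul_left_cancel e))
    · rintro ⟨-, h⟩
      have hc := st.conj_inPair F hv (Or.inl rfl : F.InPair l (F.x l))
      refine hll ?_
      rcases h with h | h <;> rw [h] at hc <;> rcases hc with e | e
      · exact F.huniq _ _ (Or.inl e)
      · exact F.huniq _ _ (Or.inr e)
      · exact F.huniq _ _ (Or.inr (by rw [← e, st.zzc]))
      · exact F.huniq _ _ (Or.inl (mul_left_cancel e))
    · rw [inv_eq_of_mul_eq_one_right (F.hx j).2.1]
      rintro ⟨-, h⟩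
      set k := F.p v j with hk
      set m := F.p v l with hm
      have hfour := st.four F (Ne.symm hlj) (Ne.symm hslj) (Ne.symm hjj) (Ne.symm hll) hlsj
        hslsj (Ne.symm hji) (Ne.symm hli) (Ne.symm hsli) (Ne.symm hsji)
      have hmk : F.x m * F.x k = z * (F.x k * F.x m) := st.anti_x F hslsj
      have hP : F.x j * F.x l * (F.x k * F.x m) = 1 ∨ F.x j * F.x l * (F.x k * F.x m) = z := by
        have hsq : F.x j * F.x l * (F.x j * F.x l) = z := by
          calc F.x j * F.x l * (F.x j * F.x l) = F.x j * (F.x l * F.x j) * F.x l := by group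
            _ = F.x j * (z * (F.x j * F.x l)) * F.x l := by
                rw [show F.x l * F.x j = z * (F.x j * F.x l) from st.anti_x F hlj]
            _ = z * (F.x j * F.x j) * (F.x l * F.x l) := by rw [st.qz' (st.hQH (F.hx j).1)]; group
            _ = z := by rw [(F.hx j).2.1, (F.hx l).2.1, mul_one, mul_one]
        rcases h with h | h <;> rcases st.conj_pair_mul F hv j l with e | e <;> rw [h, ← hk, ← hm] at e
        · exact Or.inr (by rw [← e, hsq])
        · refine Or.inl ?_
          have : F.x k * F.x m = z * (F.x j * F.x l) := by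
            conv_rhs => rw [e]
            rw [st.zzc]
          rw [this, st.qz' (st.hQH (mul_mem (F.hx j).1 (F.hx l).1)), hsq, st.zz]
        · exact Or.inl (by rw [← e, st.qz' (st.hQH (mul_mem (F.hx j).1 (F.hx l).1)), hsq, st.zz])
        · refine Or.inr ?_
          rw [← mul_left_cancel e, hsq]
      have hflip : F.x j * F.x l * (F.x m * F.x k) = z * (F.x j * F.x l * (F.x k * F.x m)) := by
        rw [hmk, st.qz' (st.hQH (mul_mem (F.hx j).1 (F.hx l).1))]
      obtain ⟨-, -, hx1, hxz⟩ := F.hx i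
      rcases hP with e | e <;> rw [e] at hflip <;> rw [hflip] at hfour <;>
        simp only [mul_one, st.zz] at hfour <;> rcases hfour with e' | e'
      · exact hxz e'.symm
      · exact hx1 (by rw [← st.zzc (F.x i), ← e', st.zz])
      · exact hx1 e'.symm
      · exact hxz (by rw [← st.zzc (F.x i), ← e', mul_one])
  set C := Q ⊓ centralizer ({v} : Set G) with hC
  have hCK : C ≤ st.Fix (h := v) hv := fun q hq => ⟨hq.1, Or.inl (by
    rw [show v * q = q * v from (mem_centralizer_singleton_iff.1 hq.2).symm, mul_inv_cancel_right])⟩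
  set w := F.x j * F.x (F.p v j) with hwdef
  have hwK : w ∈ st.Fix (h := v) hv :=
    ⟨mul_mem (F.hx j).1 (F.hx _).1, Or.inr (by rw [hvi]; exact hinv j hjj)⟩
  have hwC : w ∉ C := fun h => by
    have e := hinv j hjj
    rw [show v * w = w * v from (mem_centralizer_singleton_iff.1 h.2).symm, mul_assoc, h2, mul_one] at e
    exact st.z_ne (mul_eq_right.1 e.symm)
  have hlt : Nat.card C < Nat.card ↥(st.Fix (h := v) hv) := by
    refine lt_of_le_of_ne (card_le_of_le hCK) fun e => hwC ?_
    exact (eq_of_le_of_card_ge hCK e.ge).symm ▸ hwK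
  have hC4 : ({1, z, F.x i, z * F.x i} : Finset G) ⊆ Finset.univ.filter (fun q => q ∈ C) := by
    intro q hq
    simp only [Finset.mem_insert, Finset.mem_singleton] at hq
    refine Finset.mem_filter.2 ⟨Finset.mem_univ _, ?_⟩
    have mz : z ∈ C := ⟨st.z_mem, mem_centralizer_singleton_iff.2 (st.zc hv).symm⟩
    have mx : F.x i ∈ C := ⟨(F.hx i).1, mem_centralizer_singleton_iff.2 hvx.symm⟩
    rcases hq with rfl | rfl | rfl | rfl
    · exact one_mem C
    · exact mz
    · exact mx
    · exact mul_mem mz mx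
  obtain ⟨-, -, hx1, hxz⟩ := F.hx i
  have hcard4 : ({1, z, F.x i, z * F.x i} : Finset G).card = 4 := by
    have hzx1 : z * F.x i ≠ 1 := fun h => hxz (by
      rw [← st.zzc (F.x i), h, mul_one])
    rw [Finset.card_insert_of_notMem (by simp [Ne.symm st.z_ne, Ne.symm hx1, Ne.symm hzx1]),
      Finset.card_insert_of_notMem (by simp [Ne.symm hxz, hx1]),
      Finset.card_pair (fun h => st.z_ne (mul_eq_right.1 h.symm))]
  have hCle : (Finset.univ.filter (fun q => q ∈ C)).card = Nat.card C := by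
    rw [Nat.card_eq_fintype_card, Fintype.card_subtype]
  have hge : 4 ≤ Nat.card C := by rw [← hcard4, ← hCle]; exact Finset.card_le_card hC4
  have h4 : Nat.card C = 4 := by
    obtain ⟨n, hn5, hn⟩ := (Nat.dvd_prime_pow Nat.prime_two).1
      (show Nat.card C ∣ 2 ^ 5 by rw [show 2 ^ 5 = 32 from rfl, ← st.h32]; exact card_dvd_of_le inf_le_left)
    rw [hn] at hge hlt ⊢
    interval_cases n <;> omega
  refine ⟨h4, hK, fun q hq hqv => ?_⟩
  have hm : q ∈ ({1, z, F.x i, z * F.x i} : Finset G) := by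
    rw [Finset.eq_of_subset_of_card_le hC4 (by rw [hcard4, hCle, h4])]
    exact Finset.mem_filter.2 ⟨Finset.mem_univ _, hq, mem_centralizer_singleton_iff.2 hqv.symm⟩
  simpa using hm

/-- The involutions in a coset of `Q` are conjugate under `Q`. -/
theorem coset_conj [Finite G] {u v : G} (hu : u ∈ centralizer ({z} : Set G)) (hv : v ∈ centralizer ({z} : Set G))
    (hvQ : v ∉ Q) (hu2 : u * u = 1) (hv2 : v * v = 1) (hp : F.p u = F.p v) :
    ∃ q ∈ Q, q * v * q⁻¹ = u := by
  classical
  haveI := Fintype.ofFinite G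
  obtain ⟨hs, hne, hpp⟩ := st.p_invol F hv hvQ hv2
  obtain ⟨i, hi⟩ := perm_fixed _ hs hne hpp
  obtain ⟨h4, hK, -⟩ := st.fixed_of_invol F hv hvQ hv2 hi
  have hvi : v⁻¹ = v := inv_eq_of_mul_eq_one_right hv2
  set J : Finset G := Finset.univ.filter (fun w => w * w = 1 ∧ v * w ∈ Q) with hJ
  have hJ8 : J.card ≤ 8 := by
    refine le_trans ?_ hK
    rw [Nat.card_eq_fintype_card, Fintype.card_subtype]
    refine Finset.card_le_card_of_injOn (fun w => v * w) ?_ (fun a _ b _ hab => mul_left_cancel hab)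
    intro w hw
    obtain ⟨hw2, hwQ⟩ := (Finset.mem_filter.1 (Finset.mem_coe.1 hw)).2
    refine Finset.mem_coe.2 (Finset.mem_filter.2 ⟨Finset.mem_univ _, hwQ, ?_⟩)
    have e : v * (v * w) * v⁻¹ = (v * w)⁻¹ := by
      rw [hvi, ← mul_assoc v v, hv2, one_mul, mul_inv_rev, hvi, inv_eq_of_mul_eq_one_right hw2]
    rw [e]
    rcases st.sq_cases hwQ with h | h
    · exact Or.inl (inv_eq_of_mul_eq_one_right h)
    · refine Or.inr (inv_eq_of_mul_eq_one_right ?_)
      rw [st.qz' (st.hQH hwQ), h, st.zz]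
  set QF : Finset G := Finset.univ.filter (fun q => q ∈ Q) with hQF
  set O := QF.image (fun q => q * v * q⁻¹) with hO
  have hsub : O ⊆ J := by
    intro w hw
    obtain ⟨q, hq, rfl⟩ := Finset.mem_image.1 hw
    have hq' := (Finset.mem_filter.1 hq).2
    refine Finset.mem_filter.2 ⟨Finset.mem_univ _, ?_, ?_⟩
    · rw [show q * v * q⁻¹ * (q * v * q⁻¹) = q * (v * v) * q⁻¹ by group, hv2, mul_one, mul_inv_cancel]
    · rw [show v * (q * v * q⁻¹) = (v * q * v) * q⁻¹ by group]
      exact mul_mem (show v * q * v ∈ Q by simpa only [hvi] using st.conj_mem hv hq') (inv_mem hq')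
  have hfib : QF.card ≤ 4 * O.card := by
    refine Finset.card_le_mul_card_image QF 4 fun w hw => ?_
    obtain ⟨q₀, hq₀, rfl⟩ := Finset.mem_image.1 hw
    refine le_trans ?_ h4.le
    rw [Nat.card_eq_fintype_card, Fintype.card_subtype]
    refine Finset.card_le_card_of_injOn (fun q => q₀⁻¹ * q) ?_ (fun a _ b _ hab => mul_left_cancel hab)
    intro q hq
    obtain ⟨hq', he⟩ := Finset.mem_filter.1 (Finset.mem_coe.1 hq)
    refine Finset.mem_coe.2 (Finset.mem_filter.2 ⟨Finset.mem_univ _,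
      (mul_mem (inv_mem (Finset.mem_filter.1 hq₀).2) (Finset.mem_filter.1 hq').2 : q₀⁻¹ * q ∈ Q),
      mem_centralizer_singleton_iff.2 ?_⟩)
    calc q₀⁻¹ * q * v = q₀⁻¹ * (q * v * q⁻¹) * q := by group
      _ = q₀⁻¹ * (q₀ * v * q₀⁻¹) * q := by rw [he]
      _ = v * (q₀⁻¹ * q) := by group
  have hQc : QF.card = 32 := by rw [← st.h32, Nat.card_eq_fintype_card, Fintype.card_subtype]
  have hOJ : O = J := Finset.eq_of_subset_of_card_le hsub (by omega)
  have huJ : u ∈ J := by
    refine Finset.mem_filter.2 ⟨Finset.mem_univ _, hu2, (F.hker _ (mul_mem hv hu)).1 ?_⟩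
    rw [F.hmul v hv u hu, hp, hpp]
  rw [← hOJ, hO] at huJ
  obtain ⟨q, hq, e⟩ := Finset.mem_image.1 huJ
  exact ⟨q, (Finset.mem_filter.1 hq).2, e⟩

/-- The involutions of `H` outside `Q` are conjugate in `H`. -/
theorem invol_conj [Finite G] {u v : G} (hu : u ∈ centralizer ({z} : Set G)) (hv : v ∈ centralizer ({z} : Set G))
    (huQ : u ∉ Q) (hvQ : v ∉ Q) (hu2 : u * u = 1) (hv2 : v * v = 1) :
    ∃ h ∈ centralizer ({z} : Set G), h * v * h⁻¹ = u := by
  obtain ⟨F⟩ := st.nonempty_frame
  obtain ⟨hs, hne, hpp⟩ := st.p_invol F hv hvQ hv2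
  obtain ⟨hs', hne', hpp'⟩ := st.p_invol F hu huQ hu2
  obtain ⟨ρ, hρ, hρe⟩ := perm_conj_invol _ hs hne hpp _ hs' hne' hpp'
  obtain ⟨h, hh, rfl⟩ := F.hsurj ρ hρ
  set v' := h * v * h⁻¹ with hv'
  have hv'H : v' ∈ centralizer ({z} : Set G) := mul_mem (mul_mem hh hv) (inv_mem hh)
  have e : v' * h = h * v := by rw [hv', inv_mul_cancel_right]
  have hp : F.p v' = F.p u := by
    have h1 := congrArg F.p e
    rw [F.hmul _ hv'H _ hh, F.hmul _ hh _ hv, hρe] at h1
    exact mul_right_cancel h1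
  have hv'Q : v' ∉ Q := fun hq => hne' (hp ▸ (F.hker _ hv'H).2 hq)
  have hv'2 : v' * v' = 1 := by
    rw [hv', show h * v * h⁻¹ * (h * v * h⁻¹) = h * (v * v) * h⁻¹ by group, hv2, mul_one, mul_inv_cancel]
  obtain ⟨q, hq, hqe⟩ := st.coset_conj F hu hv'H hv'Q hu2 hv'2 hp.symm
  exact ⟨q * h, mul_mem (st.hQH hq) hh, by rw [← hqe, hv']; group⟩

end Pre

/-- In a simple group the involution is not weakly closed. -/
theorem Pre.not_weak [Finite G] [IsSimpleGroup G] (st : Pre z Q) : ∃ g : G, g * z * g⁻¹ ∈ Q ∧ g * z * g⁻¹ ≠ z := by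
  classical
  by_contra hwc
  push Not at hwc
  have hiso : ¬ Cfsg.IsIsolatedInvolution z := by
    intro hi
    have hO : Cfsg.oddCore G = ⊥ := by
      haveI := CfsgLib.Cores.pPrimeCore_characteristic (G := G) 2
      haveI : (Cfsg.oddCore G).Normal := inferInstanceAs (Cfsg.pPrimeCore 2 G).Normal
      refine (Subgroup.Normal.eq_bot_or_eq_top (inferInstance : (Cfsg.oddCore G).Normal)).resolve_right fun h => ?_
      have ho := CfsgLib.Cores.odd_card_oddCore (G := G)
      rw [h, Subgroup.card_top] at ho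
      have h2 : 2 ∣ Nat.card G := st.hz ▸ orderOf_dvd_natCard z
      exact (Nat.not_even_iff_odd.2 ho) (even_iff_two_dvd.2 h2)
    have hzc := CfsgLib.Invol.zstar_center hi hO
    have htop : Subgroup.center G = ⊤ :=
      (Subgroup.Normal.eq_bot_or_eq_top (inferInstance : (Subgroup.center G).Normal)).resolve_left fun h => by
        rw [h, Subgroup.mem_bot] at hzc
        exact st.z_ne hzc
    haveI : Q.Normal := ⟨fun x hx g => by
      have := Subgroup.mem_center_iff.1 (htop ▸ Subgroup.mem_top x : x ∈ Subgroup.center G) g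
      rw [this, mul_inv_cancel_right]; exact hx⟩
    rcases (inferInstance : Q.Normal).eq_bot_or_eq_top with h | h
    · have := st.h32; rw [h, Subgroup.card_bot] at this; omega
    · have h1 := st.h32
      rw [h, Subgroup.card_top] at h1
      have h2 := st.hH
      have := Subgroup.card_subgroup_dvd_card (Subgroup.centralizer ({z} : Set G))
      rw [h2, h1] at this
      norm_num at this
  obtain ⟨g, hc, hne⟩ : ∃ g : G, Commute z (g * z * g⁻¹) ∧ g * z * g⁻¹ ≠ z := by
    by_contra h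
    push Not at h
    exact hiso ⟨st.hz, h⟩
  set u := g * z * g⁻¹ with hu
  have huH : u ∈ centralizer ({z} : Set G) := mem_centralizer_singleton_iff.2 hc.symm.eq
  have hu2 : u * u = 1 := by
    rw [hu, show g * z * g⁻¹ * (g * z * g⁻¹) = g * (z * z) * g⁻¹ by group, st.zz, mul_one, mul_inv_cancel]
  have huQ : u ∉ Q := fun h => hne (hwc g h)
  obtain ⟨F⟩ := st.nonempty_frame
  obtain ⟨hs, hn1, hpp⟩ := st.p_invol F huH huQ hu2
  obtain ⟨i, hi⟩ := perm_fixed _ hs hn1 hpp
  have hux := (st.invol_facts F huH huQ hu2 hi).1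
  -- a commuting noncentral involution of `Q` lies in the conjugate subgroup
  have key : ∀ w ∈ Q, w * w = 1 → w ≠ 1 → w ≠ z → u * w = w * u → g⁻¹ * w * g ∈ Q := by
    intro w hw hw2 hw1 hwz hwu
    set p := g⁻¹ * w * g with hp
    have hpH : p ∈ centralizer ({z} : Set G) := mem_centralizer_singleton_iff.2 (by
      calc p * z = g⁻¹ * (w * u) * g := by rw [hp, hu]; group
        _ = g⁻¹ * (u * w) * g := by rw [hwu]
        _ = z * p := by rw [hp, hu]; group)
    have hp2 : p * p = 1 := by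
      rw [hp, show g⁻¹ * w * g * (g⁻¹ * w * g) = g⁻¹ * (w * w) * g by group, hw2, mul_one, inv_mul_cancel]
    by_contra hpQ
    obtain ⟨h, -, he⟩ := st.invol_conj huH hpH huQ hpQ hu2 hp2
    have hwz' : g * h⁻¹ * g * z * (g * h⁻¹ * g)⁻¹ = w := by
      calc g * h⁻¹ * g * z * (g * h⁻¹ * g)⁻¹ = g * h⁻¹ * u * h * g⁻¹ := by rw [hu]; group
        _ = g * h⁻¹ * (h * p * h⁻¹) * h * g⁻¹ := by rw [he]
        _ = w := by rw [hp]; group
    exact hwz ((hwc (g * h⁻¹ * g) (by rw [hwz']; exact hw)) ▸ hwz').symm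
  obtain ⟨hxQ, hx2, hx1, hxz⟩ := F.hx i
  have a := key (F.x i) hxQ hx2 hx1 hxz hux
  have b := key (z * F.x i) (mul_mem st.z_mem hxQ) (by
      rw [show z * F.x i * (z * F.x i) = z * (F.x i * z) * F.x i by group, st.qz hxQ,
        show z * (z * F.x i) * F.x i = z * z * (F.x i * F.x i) by group, st.zz, hx2, one_mul])
    (fun h => hxz (by rw [← st.zzc (F.x i), h, mul_one]))
    (fun h => hx1 (mul_eq_left.1 h))
    (by rw [st.qz' huH, hux, mul_assoc])
  have c : g⁻¹ * z * g ∈ Q := by
    have := mul_mem b (inv_mem a)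
    rwa [show g⁻¹ * (z * F.x i) * g * (g⁻¹ * F.x i * g)⁻¹ = g⁻¹ * z * g by group] at this
  have := hwc g⁻¹ (by rwa [inv_inv])
  rw [inv_inv] at this
  exact hne (by
    calc u = g * (g⁻¹ * z * g) * g⁻¹ := by rw [hu, this]
      _ = z := by group)

end CfsgLib.JTwoUniq
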