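import Cfsg.Agent.Lib.JTwoUniq.Coords
import Cfsg.Agent.Lib.HJType.Order

/-!
Coordinates on the centralizer exist: signs of the five pairs and a complement containing a given element of
order three.
-/

set_option autoImplicit false
set_option linter.style.haveILetI false
set_option maxRecDepth 100000

namespace CfsgLib.JTwoUniq

open Coset CfsgLib.HJType Subgroup

variable {G : Type*} [Group G] [Finite G] {z t : G} {Q V B K : Subgroup G}

theorem sgn_five {u : G} {p : Equiv.Perm (Fin 5)} {e : Fin 5 → Bool} {y : Fin 5 → G} (hz : z * z = 1)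
    (hu : u * z = z * u) (a : Act z y u p e) :
    Act z y (u * (u * (u * (u * u)))) (p * (p * (p * (p * p)))) (five p e) :=
  Act.mul hz hu a (Act.mul hz hu a (Act.mul hz hu a (Act.mul hz hu a a)))

theorem vec_eq {α : Type*} (e : Fin 5 → α) : ![e 0, e 1, e 2, e 3, e 4] = e := by
  funext i; fin_cases i <;> rfl

theorem exists_involution_lift (P : Pair z t Q) (F : Frame z Q) (τ : Equiv.Perm (Fin 5))
    (hs : Equiv.Perm.sign τ = 1) (h1 : τ ≠ 1) (h2 : τ * τ = 1) :
    ∃ a ∈ centralizer ({z} : Set G), a * a = 1 ∧ F.p a = τ := by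
  obtain ⟨hs', hne, hpp⟩ := P.st.p_invol F P.ht P.htQ P.ht2
  obtain ⟨ρ, hρ, e⟩ := perm_conj_invol _ hs' hne hpp τ hs h1 h2
  obtain ⟨h, hh, rfl⟩ := F.hsurj ρ hρ
  refine ⟨h * t * h⁻¹, mul_mem (mul_mem hh P.ht) (inv_mem hh), ?_, ?_⟩
  · rw [show h * t * h⁻¹ * (h * t * h⁻¹) = h * (t * t) * h⁻¹ by group, P.ht2, mul_one, mul_inv_cancel]
  · have hi : F.p h * F.p h⁻¹ = 1 := by
      rw [← F.hmul h hh _ (inv_mem hh), mul_inv_cancel]
      exact (F.hker 1 (one_mem _)).2 (one_mem _)
    rw [F.hmul _ (mul_mem hh P.ht) _ (inv_mem hh), F.hmul h hh t P.ht, e, mul_assoc, hi, mul_one]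

/-- An element of `H` with a permutation of order five: its fifth power is central. -/
theorem five_power (st : Setup z Q) (F : Frame z Q) {u : G} (hu : u ∈ centralizer ({z} : Set G))
    (hp : F.p u ≠ 1) (hp5 : F.p u * (F.p u * (F.p u * (F.p u * F.p u))) = 1) :
    u * (u * (u * (u * u))) = 1 ∨ u * (u * (u * (u * u))) = z := by
  classical
  haveI : Fact (Nat.Prime 5) := ⟨by norm_num⟩
  have hpow : ∀ k : ℕ, F.p (u ^ k) = F.p u ^ k := by
    intro k
    induction k with
    | zero => rw [pow_zero, pow_zero]; exact (F.hker 1 (one_mem _)).2 (one_mem _)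
    | succ k ih => rw [pow_succ, F.hmul _ (pow_mem hu k) u hu, ih, pow_succ]
  have h5 : F.p u ^ 5 = 1 := by
    rw [← hp5]; simp [pow_succ, mul_assoc]
  set q := u * (u * (u * (u * u))) with hq
  have hq5 : q = u ^ 5 := by rw [hq]; simp [pow_succ, mul_assoc]
  have hqQ : q ∈ Q := (F.hker q (hq5 ▸ pow_mem hu 5)).1 (by rw [hq5, hpow, h5])
  have hq4 : q ^ 4 = 1 := by
    have hs := st.sq_cases hqQ
    rcases hs with h | h <;> rw [show q ^ 4 = (q * q) * (q * q) by simp [pow_succ, mul_assoc], h]
    · exact one_mul 1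
    · exact st.zz
  set f := u ^ 16 with hf
  have hf5 : orderOf f = 5 := by
    refine orderOf_eq_prime ?_ fun h => hp ?_
    · rw [hf, ← pow_mul, show 16 * 5 = 5 * 4 * 4 from rfl, pow_mul, pow_mul, ← hq5, hq4, one_pow]
    · have := congrArg F.p h
      rw [hf, hpow, show 16 = 5 + 5 + 5 + 1 from rfl, pow_add, pow_add, pow_add, h5,
        (F.hker 1 (one_mem _)).2 (one_mem _)] at this
      simpa using this
  have hfH : f ∈ centralizer ({z} : Set G) := pow_mem hu 16
  have hqf : q * f = f * q := by rw [hq5, hf, ← pow_add, ← pow_add, add_comm]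
  obtain ⟨h10, hinv⟩ := st.cent_five hfH hf5
  rcases st.sq_cases hqQ with h | h
  · rcases hinv q (st.hQH hqQ) hqf h with h' | h'
    exacts [Or.inl h', Or.inr h']
  · exfalso
    have ho : orderOf q = 4 := by
      have : Fact (Nat.Prime 2) := ⟨Nat.prime_two⟩
      refine orderOf_eq_prime_pow (p := 2) (n := 1) ?_ (by norm_num; exact hq4)
      norm_num
      rw [pow_two, h]
      exact st.z_ne
    have := Subgroup.orderOf_dvd_natCard (centralizer ({z} : Set G) ⊓ centralizer ({f} : Set G))
      (show q ∈ _ from mem_inf.2 ⟨st.hQH hqQ, mem_centralizer_singleton_iff.2 hqf⟩)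
    rw [h10, ho] at this
    norm_num at this

theorem inPair_zb {F : Frame z Q} {i : Fin 5} {u : G} (h : u = F.x i ∨ u = z * F.x i) :
    ∃ b, u = zb z b * F.x i := by
  rcases h with h | h
  · exact ⟨false, by simp [zb, h]⟩
  · exact ⟨true, by simp [zb, h]⟩

/-- Coordinates with `σ` in `K` and `x₀` in `B`. -/
theorem exists_coords (n : NData z t Q V B K) :
    ∃ f, Coords z Q f ∧ f 6 ∈ K ∧ f 6 * f 6 * f 6 = 1 ∧ f 1 ∈ B := by
  classical
  have P := n.dd.pr
  have st := P.st
  obtain ⟨F⟩ := st.nonempty_frame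
  obtain ⟨σ, hσK, hσo⟩ := n.exists_sigma
  have hσz : σ * z = z * σ := n.hKB σ hσK z n.dd.hzB
  have hσH : σ ∈ centralizer ({z} : Set G) := mem_centralizer_singleton_iff.2 hσz
  have hσ3 : σ * σ * σ = 1 := by rw [← pow_orderOf_eq_one σ, hσo, pow_three]; group
  have hσ1 : σ ≠ 1 := fun h => by rw [h, orderOf_one] at hσo; omega
  -- an element of `E` other than `z`
  obtain ⟨e, he, he1, hez⟩ : ∃ e ∈ EE Q t, e ≠ 1 ∧ e ≠ z := by
    by_contra hcon
    push Not at hcon
    have hsub : ((EE Q t : Subgroup G) : Set G) ⊆ {1, z} := fun x hx => by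
      by_cases h : x = 1
      · exact Or.inl h
      · exact Or.inr (hcon x hx h)
    have := Set.ncard_le_ncard hsub (Set.toFinite _)
    rw [Set.ncard_pair st.z_ne.symm, ← Nat.card_coe_set_eq] at this
    have h4 := P.card_E
    change Nat.card (EE Q t) ≤ 2 at this
    omega
  have heB : e ∈ B := n.dd.zclass_mem_B he.2 (P.E_zclass he he1)
  obtain ⟨i, hi⟩ := F.hall e he.1 (P.E_sq he) he1 hez
  -- the permutation of `σ` fixes the pair of `e`
  set s := F.p σ with hs
  have hpone : F.p 1 = 1 := (F.hker 1 (one_mem _)).2 (one_mem _)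
  have hs3 : s * s * s = 1 := by
    rw [hs, ← F.hmul σ hσH σ hσH, ← F.hmul _ (mul_mem hσH hσH) σ hσH, hσ3, hpone]
  have hs1 : s ≠ 1 := fun h => by
    have hm : σ ∈ Q := (F.hker σ hσH).1 h
    have := Subgroup.orderOf_dvd_natCard Q hm
    rw [hσo, st.h32] at this
    norm_num at this
  have hsi : s i = i := by
    have hc : σ * F.x i * σ⁻¹ = F.x i := by
      have h0 : σ * e = e * σ := n.hKB σ hσK e heB
      rcases hi with hi | hi
      · rw [← hi, h0, mul_inv_cancel_right]
      · have hxe : F.x i = z * e := by rw [hi, st.zzc]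
        rw [hxe, show σ * (z * e) * σ⁻¹ = σ * z * (e * σ⁻¹) by group, hσz,
          show z * σ * (e * σ⁻¹) = z * (σ * e * σ⁻¹) by group, h0, mul_inv_cancel_right]
    rcases F.hact σ hσH i with h | h <;> rw [hc, ← hs] at h
    · exact (F.huniq i (s i) (Or.inl h.symm)).symm
    · exact (F.huniq i (s i) (Or.inr (by rw [h, st.zzc]))).symm
  obtain ⟨π, hπ0, hπ⟩ := perm_relabel s (F.hsign σ hσH) hs1 hs3 i hsi
  -- an involution with the permutation of `a`
  obtain ⟨psa, pa1, pa2, ps3, pu1, pu5⟩ := perm_facts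
  obtain ⟨a0, ha0H, ha02, hpa0⟩ := exists_involution_lift P F (π * ab * π⁻¹)
    (by rw [map_mul, map_mul, psa, map_inv, mul_one, mul_inv_cancel])
    (fun h => pa1 (by
      calc ab = π⁻¹ * (π * ab * π⁻¹) * π := by group
        _ = 1 := by rw [h]; group))
    (by
      calc π * ab * π⁻¹ * (π * ab * π⁻¹) = π * (ab * ab) * π⁻¹ := by group
        _ = 1 := by rw [pa2]; group)
  have hsπ : s = π * sb * π⁻¹ := by
    refine Equiv.ext fun j => ?_
    have := hπ (π⁻¹ j)
    simpa using this
  -- adjust by the centre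
  obtain ⟨a, haH, ha2, hpa, hu5⟩ : ∃ a ∈ centralizer ({z} : Set G), a * a = 1 ∧ F.p a = π * ab * π⁻¹ ∧
      (σ * a) * ((σ * a) * ((σ * a) * ((σ * a) * (σ * a)))) = 1 := by
    have hu : σ * a0 ∈ centralizer ({z} : Set G) := mul_mem hσH ha0H
    have hpu : F.p (σ * a0) = π * (sb * ab) * π⁻¹ := by
      rw [F.hmul σ hσH a0 ha0H, hpa0, ← hs, hsπ]; group
    rcases five_power st F hu (by
        rw [hpu]
        intro h
        exact pu1 (by
          calc sb * ab = π⁻¹ * (π * (sb * ab) * π⁻¹) * π := by group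
            _ = 1 := by rw [h]; group))
      (by
        rw [hpu]
        calc π * (sb * ab) * π⁻¹ * (π * (sb * ab) * π⁻¹ * (π * (sb * ab) * π⁻¹ * (π * (sb * ab) * π⁻¹ *
              (π * (sb * ab) * π⁻¹))))
            = π * ((sb * ab) * ((sb * ab) * ((sb * ab) * ((sb * ab) * (sb * ab))))) * π⁻¹ := by group
          _ = 1 := by rw [pu5]; group) with h | h
    · exact ⟨a0, ha0H, ha02, hpa0, h⟩
    · refine ⟨z * a0, mul_mem st.z_mem_H ha0H, ?_, ?_, ?_⟩
      · rw [show z * a0 * (z * a0) = z * (a0 * z) * a0 by group, st.zc ha0H,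
          show z * (z * a0) * a0 = z * z * (a0 * a0) by group, st.zz, ha02, one_mul]
      · rw [F.hmul z st.z_mem_H a0 ha0H, (F.hker z st.z_mem_H).2 st.z_mem, one_mul, hpa0]
      · set u := σ * a0 with hudef
        have e1 : σ * (z * a0) = z * u := by rw [← mul_assoc, hσz, hudef, mul_assoc]
        have hc : Commute z u := (st.zc hu).symm
        rw [e1]
        calc z * u * (z * u * (z * u * (z * u * (z * u)))) = (z * u) ^ 5 := by simp [pow_succ, mul_assoc]
          _ = z ^ 5 * u ^ 5 := hc.mul_pow 5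
          _ = 1 := by
            rw [show z ^ 5 = z * z * (z * z) * z by simp [pow_succ, mul_assoc], st.zz,
              show u ^ 5 = u * (u * (u * (u * u))) by simp [pow_succ, mul_assoc], h, one_mul, one_mul, st.zz]
  -- signs
  let y : Fin 5 → G := fun j => F.x (π j)
  have hyQ : ∀ j, y j ∈ Q := fun j => (F.hx _).1
  have hact : ∀ {g : G}, g ∈ centralizer ({z} : Set G) → ∀ (p : Equiv.Perm (Fin 5)), F.p g = π * p * π⁻¹ →
      ∃ d : Fin 5 → Bool, Act z y g p d := by
    intro g hg p hgp
    have : ∀ j, ∃ b, g * y j * g⁻¹ = zb z b * y (p j) := fun j => by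
      have h := F.hact g hg (π j)
      rw [hgp] at h
      simp only [Equiv.Perm.mul_apply, Equiv.Perm.coe_inv, Equiv.symm_apply_apply] at h
      rcases h with h | h
      · exact ⟨false, by simp [zb, y, h]⟩
      · exact ⟨true, by simp [zb, y, h]⟩
    choose d hd using this
    exact ⟨d, hd⟩
  obtain ⟨es, hes⟩ := hact hσH sb (by rw [← hs, hsπ])
  obtain ⟨ea, hea⟩ := hact haH ab hpa
  have hzz := st.zz
  have haz := st.zc haH
  have c1 := (Act.mul hzz haz hea hea).eq_one st.z_ne ha2 pa2
  have c2 := (Act.mul hzz hσz hes (Act.mul hzz hσz hes hes)).eq_one st.z_ne (by rw [← mul_assoc]; exact hσ3) ps3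
  have c3 := (sgn_five hzz (st.zc (mul_mem hσH haH)) (Act.mul hzz hσz hes hea)).eq_one st.z_ne hu5 pu5
  obtain ⟨d0, d1, d2, d3, d4, hd⟩ := cocycle (ea 0) (ea 1) (ea 2) (ea 3) (ea 4) (es 0) (es 1) (es 2) (es 3) (es 4)
    (by rw [vec_eq]; exact c1)
    (fun i => by
      rw [vec_eq]
      have := c2 i
      simp only [cmpE, Equiv.Perm.mul_apply] at this ⊢
      revert this
      cases es i <;> cases es (sb i) <;> cases es (sb (sb i)) <;> simp)
    (by rw [vec_eq, vec_eq]; exact c3)
  rw [vec_eq, vec_eq] at hd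
  set d := ![d0, d1, d2, d3, d4] with hdd
  have hzbc : ∀ (b : Bool) {g : G}, g ∈ centralizer ({z} : Set G) → g * zb z b = zb z b * g :=
    fun b g hg => zb_comm (st.zc hg) b
  -- corrected representatives, for either global sign
  have hfix : ∀ c : Bool, ∀ g ∈ centralizer ({z} : Set G), ∀ (p : Equiv.Perm (Fin 5)) (eg : Fin 5 → Bool),
      Act z y g p eg → (∀ j, eg j = xor (d j) (d (p j))) →
      ∀ j, g * (zb z (xor c (d j)) * y j) * g⁻¹ = zb z (xor c (d (p j))) * y (p j) := by
    intro c g hg p eg hA he j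
    calc g * (zb z (xor c (d j)) * y j) * g⁻¹ = zb z (xor c (d j)) * (g * y j * g⁻¹) := by
          rw [← mul_assoc, hzbc _ hg]; group
      _ = _ := by
        rw [hA j, ← mul_assoc, zb_mem hzz, he j]
        congr 2
        cases c <;> cases d j <;> cases d (p j) <;> rfl
  have hzzb : ∀ b, zb z b ∈ Q := fun b => by cases b <;> simp [zb, st.z_mem, one_mem]
  obtain ⟨b0, hb0⟩ := inPair_zb (st.four F (a := π 0) (b := π 1) (c := π 2) (d := π 3) (i := π 4)
    (by simp) (by simp) (by simp) (by simp) (by simp) (by simp) (by simp) (by simp) (by simp) (by simp))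
  have hxx : ∀ (b : Bool) (j : Fin 5), (zb z b * y j) * (zb z b * y j) = 1 := fun b j => by
    have hy2 : y j * y j = 1 := (F.hx _).2.1
    rw [show zb z b * y j * (zb z b * y j) = zb z b * (y j * zb z b) * y j by group,
      hzbc _ (st.hQH (hyQ j)), show zb z b * (zb z b * y j) * y j = zb z b * zb z b * (y j * y j) by group,
      zb_mem hzz, hy2, mul_one]
    cases b <;> rfl
  -- choose the global sign
  set c := xor (xor (xor (d 0) (d 1)) (xor (d 2) (d 3))) (xor (d 4) b0) with hc
  let x : Fin 5 → G := fun j => zb z (xor c (d j)) * y j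
  have hxQ : ∀ j, x j ∈ Q := fun j => mul_mem (hzzb _) (hyQ j)
  have hprod : x 0 * (x 1 * (x 2 * (x 3 * x 4))) = 1 := by
    have move : ∀ (b : Bool) {g : G}, g ∈ Q → g * zb z b = zb z b * g := fun b g hg => hzbc b (st.hQH hg)
    show zb z (xor c (d 0)) * y 0 * (zb z (xor c (d 1)) * y 1 * (zb z (xor c (d 2)) * y 2 *
      (zb z (xor c (d 3)) * y 3 * (zb z (xor c (d 4)) * y 4)))) = 1
    have step : ∀ (a b : Bool) {g : G}, g ∈ Q → ∀ h : G, zb z a * g * (zb z b * h) = zb z (xor a b) * (g * h) := by
      intro a b g hg h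
      calc zb z a * g * (zb z b * h) = zb z a * (g * zb z b) * h := by group
        _ = _ := by rw [move b hg, ← mul_assoc, zb_mem hzz]; group
    rw [step _ _ (hyQ 3), step _ _ (hyQ 2), step _ _ (hyQ 1), step _ _ (hyQ 0),
      show y 0 * (y 1 * (y 2 * (y 3 * y 4))) = y 0 * y 1 * (y 2 * y 3) * y 4 by group,
      show y 0 * y 1 * (y 2 * y 3) = zb z b0 * y 4 from hb0, mul_assoc, (F.hx (π 4)).2.1, mul_one, zb_mem hzz]
    revert hc
    cases c <;> cases d 0 <;> cases d 1 <;> cases d 2 <;> cases d 3 <;> cases d 4 <;> cases b0 <;> simp [zb]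
  have hanti : ∀ j k, j ≠ k → x j * x k = z * (x k * x j) := by
    intro j k hjk
    have hA : F.x (π j) * F.x (π k) = z * (F.x (π k) * F.x (π j)) := st.anti_x F (π.injective.ne hjk)
    calc x j * x k = zb z (xor c (d j)) * (y j * zb z (xor c (d k))) * y k := by simp only [x]; group
      _ = zb z (xor c (d j)) * zb z (xor c (d k)) * (y j * y k) := by rw [hzbc _ (st.hQH (hyQ j))]; group
      _ = zb z (xor c (d k)) * zb z (xor c (d j)) * (z * (y k * y j)) := by
          rw [zb_mem hzz, zb_mem hzz, Bool.xor_comm, hA]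
      _ = z * (zb z (xor c (d k)) * (zb z (xor c (d j)) * y k) * y j) := by
          rw [show zb z (xor c (d k)) * zb z (xor c (d j)) * (z * (y k * y j)) =
            zb z (xor c (d k)) * zb z (xor c (d j)) * z * (y k * y j) by group,
            show zb z (xor c (d k)) * zb z (xor c (d j)) * z = z * (zb z (xor c (d k)) * zb z (xor c (d j))) by
              rw [zb_mem hzz, zb_comm rfl]]
          group
      _ = z * (x k * x j) := by rw [← hzbc _ (st.hQH (hyQ k))]; simp only [x]; group
  have hrel := coordFun_rel (y := x) (s := σ) (a := a) hzz (fun j => hxx _ j)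
    (fun j => st.qz (hxQ j)) hσz haz hσ3 ha2 hu5 hprod hanti
    (fun j => hfix c σ hσH sb es hes (fun k => (hd k).2) j)
    (fun j => hfix c a haH ab ea hea (fun k => (hd k).1) j)
  refine ⟨coordFun z x σ a, ⟨rfl, hrel, ?_, hxQ 0⟩, hσK, hσ3, ?_⟩
  · set f := coordFun z x σ a with hf
    set D := Subgroup.closure (f '' {i | i < 10}) with hD
    have hmemD : ∀ j < 10, f j ∈ D := fun j hj => subset_closure ⟨j, hj, rfl⟩
    have hle : D ≤ centralizer ({z} : Set G) := by
      rw [hD, closure_le]
      have hsa : ∀ w : List ℕ, ev (fun i => if i = 6 then σ else if i = 7 then a else 1) w ∈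
          centralizer ({z} : Set G) := fun w => ev_mem fun l _ => by
        split_ifs
        exacts [hσH, haH, one_mem _]
      rintro _ ⟨j, hj, rfl⟩
      simp only [Set.mem_ofPred_eq] at hj
      interval_cases j
      exacts [st.z_mem_H, st.hQH (hxQ 0), st.hQH (hxQ 1), st.hQH (hxQ 2), st.hQH (hxQ 3), st.hQH (hxQ 4), hσH,
        haH, hsa _, hsa _]
    have hxD : ∀ j, x j ∈ D := fun j => by fin_cases j <;> first
      | exact hmemD 1 (by norm_num) | exact hmemD 2 (by norm_num) | exact hmemD 3 (by norm_num)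
      | exact hmemD 4 (by norm_num) | exact hmemD 5 (by norm_num)
    have hzD : z ∈ D := hmemD 0 (by norm_num)
    -- the involutions generate `Q`
    have hQD : Q ≤ D := by
      intro q hq
      by_contra hqD
      have hinvD : ∀ u ∈ Q, u * u = 1 → u ∈ D := by
        intro u hu hu2
        by_cases h1 : u = 1
        · exact h1 ▸ one_mem D
        by_cases h2 : u = z
        · exact h2 ▸ hzD
        obtain ⟨j, hj⟩ := F.hall u hu hu2 h1 h2
        obtain ⟨b, hb⟩ := inPair_zb hj
        have hzbD : ∀ b, zb z b ∈ D := fun b => by cases b <;> simp [zb, hzD, one_mem]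
        have : u = zb z (xor b (xor c (d (π⁻¹ j)))) * x (π⁻¹ j) := by
          simp only [x, y, Equiv.Perm.coe_inv, Equiv.apply_symm_apply]
          rw [← mul_assoc, zb_mem hzz, hb]
          congr 2
          cases b <;> cases c <;> cases d (π.symm j) <;> rfl
        rw [this]
        exact mul_mem (hzbD _) (hxD _)
      -- outside `D` the elements commute with all the involutions
      have hcomm : ∀ u ∈ Q, u ∉ D → ∀ j, u * x j = x j * u := by
        intro u hu huD j
        have hu2 : u * u = z := (st.sq_cases hu).resolve_left fun h => huD (hinvD u hu h)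
        refine (st.comm_cases hu (hxQ j)).resolve_right fun h => huD ?_
        have hh : u * x j * (u * x j) = 1 := by
          unfold Anti at h
          calc u * x j * (u * x j) = u * x j * (z * (x j * u)) := by rw [h]
            _ = u * (x j * z) * x j * u := by group
            _ = u * (z * x j) * x j * u := by rw [st.qz (hxQ j)]
            _ = u * z * (x j * x j) * u := by group
            _ = z * (u * u) := by rw [hxx, mul_one, st.qz hu]; group
            _ = 1 := by rw [hu2, st.zz]
        have := mul_mem (hinvD _ (mul_mem hu (hxQ j)) hh) (inv_mem (hxD j))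
        rwa [mul_inv_cancel_right] at this
      have h1 := hcomm (q * x 0) (mul_mem hq (hxQ 0)) (fun h => hqD (by
        simpa using mul_mem h (inv_mem (hxD 0)))) 1
      have h2 := hcomm q hq hqD 1
      have h3 := hanti 0 1 (by decide)
      refine st.z_ne ?_
      have h4 : x 0 * x 1 = x 1 * x 0 := by
        have : q * (x 0 * x 1) = q * (x 1 * x 0) := by
          calc q * (x 0 * x 1) = q * x 0 * x 1 := by group
            _ = x 1 * q * x 0 := by rw [h1]; group
            _ = _ := by rw [← h2]; group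
        exact mul_left_cancel this
      rw [h4] at h3
      exact mul_eq_right.1 h3.symm
    -- the permutations
    refine le_antisymm hle fun g hg => ?_
    have hps : Equiv.Perm.sign (π⁻¹ * F.p g * π) = 1 := by
      rw [map_mul, map_mul, F.hsign g hg, mul_one, map_inv, inv_mul_cancel]
    obtain ⟨w, -, hw⟩ := perm_gen _ hps
    have hwD : ∀ w : List Bool, (w.map fun b => if b then a else σ).prod ∈ D ∧
        F.p (w.map fun b => if b then a else σ).prod = π * (w.map fun b => if b then ab else sb).prod * π⁻¹ := by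
      intro w
      induction w with
      | nil => exact ⟨one_mem D, by simp [hpone]⟩
      | cons b w ih =>
        obtain ⟨hm, hp⟩ := ih
        have hb : (if b then a else σ) ∈ D ∧
            F.p (if b then a else σ) = π * (if b then ab else sb) * π⁻¹ := by
          cases b
          · exact ⟨hmemD 6 (by norm_num), by simp only [Bool.false_eq_true, if_false]; rw [← hs, hsπ]⟩
          · exact ⟨hmemD 7 (by norm_num), by simp only [if_true]; exact hpa⟩
        rw [List.map_cons, List.prod_cons, List.map_cons, List.prod_cons]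
        refine ⟨mul_mem hb.1 hm, ?_⟩
        rw [F.hmul _ (hle hb.1) _ (hle hm), hb.2, hp]
        group
    obtain ⟨hm, hp⟩ := hwD w
    set g' := (w.map fun b => if b then a else σ).prod with hg'
    rw [hw, show π * (π⁻¹ * F.p g * π) * π⁻¹ = F.p g by group] at hp
    have hq : g * g'⁻¹ ∈ Q := (F.hker _ (mul_mem hg (inv_mem (hle hm)))).1 (by
      have hgi : F.p g' * F.p g'⁻¹ = 1 := by rw [← F.hmul _ (hle hm) _ (inv_mem (hle hm)), mul_inv_cancel, hpone]
      rw [F.hmul g hg _ (inv_mem (hle hm)), ← hp, hgi])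
    simpa using mul_mem (hQD hq) hm
  · show zb z (xor c (d 0)) * F.x (π 0) ∈ B
    have hzB : ∀ b, zb z b ∈ B := fun b => by cases b <;> simp [zb, n.dd.hzB, one_mem]
    rw [hπ0]
    obtain ⟨b, hb⟩ := inPair_zb hi
    have hxi : F.x i = zb z b * e := by
      rw [hb, ← mul_assoc, zb_mem hzz]; cases b <;> simp [zb]
    rw [hxi]
    exact mul_mem (hzB _) (mul_mem (hzB _) heB)

end CfsgLib.JTwoUniq
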