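import Cfsg.Agent.Lib.JTwoUniq.Signs

/-!
Aligning the coordinates with the four-group: the two complements containing `σ` are exchanged by an
automorphism of the centralizer inverting `σ`.
-/

set_option autoImplicit false
set_option linter.style.haveILetI false
set_option maxRecDepth 100000
set_option synthInstance.maxSize 512
set_option synthInstance.maxHeartbeats 200000

namespace CfsgLib.JTwoUniq

open Coset CfsgLib.HJType Subgroup

/-- Substituting words for generators. -/
def subW (s : List (List ℕ)) : List ℕ → List ℕ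
  | [] => []
  | l :: w => (if l % 2 == 0 then s.getD (l / 2) [] else invW (s.getD (l / 2) [])) ++ subW s w

/-- The automorphism of the model inverting `σ`. -/
def awW : List (List ℕ) :=
  [[0], [2], [0, 4], [6], [10], [8], [12, 12], [4, 8, 12, 14, 16], [4, 2, 16], [4, 6, 18]]

theorem ev_subW {Γ : Type*} [Group Γ] (f : ℕ → Γ) (s : List (List ℕ)) :
    ∀ w : List ℕ, ev f (subW s w) = ev (fun i => ev f (s.getD i [])) w
  | [] => rfl
  | l :: w => by
    rw [subW, ev_append, ev_cons, ev_subW f s w]
    congr 1
    rcases Nat.even_or_odd' l with ⟨k, rfl | rfl⟩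
    · rw [lval_even, if_pos (by simp), show 2 * k / 2 = k by omega]
    · rw [lval_odd, if_neg (by simp), show (2 * k + 1) / 2 = k by omega, ev_invW]

/-- The conjugates of a word by the powers of `σ`. -/
def sigConj (w : List ℕ) : List (List ℕ) := [w, [12] ++ w ++ [13], [13] ++ w ++ [12]]

/-- The words which can be the fixed involution. -/
def tTargets : List (List ℕ) := sigConj [18] ++ sigConj [4, 6, 18]

/-- The conditions on the fixed involution. -/
def tCond (w : List ℕ) : Bool :=
  (pev (w ++ w) == pev []) && !(pev w == pev []) && (pev (w ++ [2]) == pev ([2] ++ w)) &&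
    (pev ([12] ++ w ++ [12] ++ w ++ [12] ++ w) == pev []) && !(pev ([12] ++ w) == pev (w ++ [12]))

/-- The conditions on the fixed involution, on codes. -/
def tC (R : ℕ) : Bool :=
  let m := Golay.PackPerm.mulP 32
  (m R R == pev []) && !(R == pev []) && (m R (pev [2]) == m (pev [2]) R) &&
    (m (m (m (m (m (pev [12]) R) (pev [12])) R) (pev [12])) R == pev []) && !(m (pev [12]) R == m R (pev [12]))

theorem tCond_eq {w : List ℕ} (h : ∀ l ∈ w, l < 20) : tCond w = tC (pev w) := by
  have app : ∀ {u v : List ℕ}, (∀ l ∈ u, l < 20) → (∀ l ∈ v, l < 20) → ∀ l ∈ u ++ v, l < 20 :=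
    fun hu hv l hl => (List.mem_append.1 hl).elim (hu l) (hv l)
  have h2 : ∀ l ∈ ([2] : List ℕ), l < 20 := by simp
  have h12 : ∀ l ∈ ([12] : List ℕ), l < 20 := by simp
  unfold tCond tC
  rw [pev_app h h, pev_app h h2, pev_app h2 h, pev_app (app (app (app (app h12 h) h12) h) h12) h,
    pev_app (app (app (app h12 h) h12) h) h12, pev_app (app (app h12 h) h12) h, pev_app (app h12 h) h12,
    pev_app h12 h, pev_app h h12]

theorem align_checks : eltC.all (fun R => !tC R || tTargets.any (fun v => R == pev v)) = true ∧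
    Data.relC.all (fun w => (pev (subW awW w) == pev []) && (subW awW w).all (fun l => l.blt 20)) = true ∧
    (List.range 10).all (fun i => pev (subW awW (awW.getD i [])) == pev [2 * i]) = true ∧
    awW.all (fun w => w.all fun l => l.blt 20) = true ∧
    (List.range 10).all (fun i => (subW awW (awW.getD i [])).all fun l => l.blt 20) = true := by
  refine ⟨?_, ?_, ?_, ?_, ?_⟩ <;> decide +kernel

theorem a4_prod : ∀ a b : alternatingGroup (Fin 4), b * b = 1 → b ≠ 1 → a * a * a = 1 → a ≠ 1 →
    a * b * (a * b) * (a * b) = 1 := by decide +kernel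

variable {G : Type*} [Group G] [Finite G] {z t : G} {Q V B K : Subgroup G}

theorem aw_coords {f : ℕ → G} (c : Coords z Q f) : Coords z Q (fun i => ev f (awW.getD i [])) := by
  set f' : ℕ → G := fun i => ev f (awW.getD i []) with hf'
  refine ⟨by simp [hf', awW, ev, lval, c.f0], fun w hw => ?_, ?_, by simpa [hf', awW, ev, lval] using c.fQ⟩
  · have h := List.all_eq_true.1 align_checks.2.1 w hw
    simp only [Bool.and_eq_true, beq_iff_eq, List.all_eq_true, Nat.blt_eq] at h
    rw [hf', ← ev_subW, transfer c.rel h.2 (w := []) (by simp) h.1, ev_nil]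
  · refine le_antisymm ?_ ?_
    · rw [closure_le]
      rintro _ ⟨i, hi, rfl⟩
      refine ev_mem fun l hl => c.mem ?_
      have hi' : i < awW.length := hi
      rw [List.getD_eq_getElem _ _ hi'] at hl
      have := List.all_eq_true.1 (List.all_eq_true.1 align_checks.2.2.2.1 _ (List.getElem_mem hi')) l hl
      rw [Nat.blt_eq] at this
      omega
    · rw [← c.gen, closure_le]
      rintro _ ⟨i, hi, rfl⟩
      have hi' : i < awW.length := hi
      have h := List.all_eq_true.1 align_checks.2.2.1 i (List.mem_range.2 hi)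
      rw [beq_iff_eq] at h
      have hlt : ∀ l ∈ subW awW (awW.getD i []), l < 20 := fun l hl => by
        have := List.all_eq_true.1 (List.all_eq_true.1 align_checks.2.2.2.2 i (List.mem_range.2 hi)) l hl
        rwa [Nat.blt_eq] at this
      have hlt' : ∀ l ∈ [2 * i], l < 20 := by
        intro l hl
        rw [List.mem_singleton] at hl
        have : i < 10 := hi
        omega
      rw [SetLike.mem_coe, ← ev_singleton f i, ← transfer c.rel hlt hlt' h, ev_subW]
      refine ev_mem fun l hl => subset_closure ⟨l / 2, ?_, rfl⟩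
      rw [List.getD_eq_getElem _ _ hi'] at hl
      have := List.all_eq_true.1 (List.all_eq_true.1 align_checks.2.2.2.1 _ (List.getElem_mem hi')) l hl
      rw [Nat.blt_eq] at this
      show l / 2 < 10
      omega

/-- Coordinates with `σ ∈ K`, `t ∈ V` and `x₀ ∈ B`. -/
theorem exists_aligned (n : NData z t Q V B K) :
    ∃ f, Coords z Q f ∧ f 6 ∈ K ∧ f 9 ∈ V ∧ f 1 ∈ B := by
  classical
  obtain ⟨f, c, h6, h63, h1⟩ := exists_coords n
  have P := n.dd.pr
  have hH := P.st.hH
  obtain ⟨w, hw, hwt⟩ := c.lift P.ht
  have hwlt : ∀ l ∈ w, l < 20 := lt_twenty le_rfl elt_checks.2.1 hw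
  have htV := n.dd.htV
  have htK : t ∈ K := n.hVK htV
  have e6 : ev f [12] = f 6 := ev_singleton f 6
  have e1 : ev f [2] = f 1 := ev_singleton f 1
  have hl12 : ∀ l ∈ ([12] : List ℕ), l < 20 := by simp
  have app : ∀ {u v : List ℕ}, (∀ l ∈ u, l < 20) → (∀ l ∈ v, l < 20) → ∀ l ∈ u ++ v, l < 20 := by
    intro u v hu hv l hl
    rcases List.mem_append.1 hl with h | h
    exacts [hu l h, hv l h]
  have hσ1 : f 6 ≠ 1 := fun h => by
    have := c.code_eq hH (v := [12]) (w := []) hl12 (by simp) (by rw [e6, h, ev_nil])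
    exact absurd this (by decide +kernel)
  have hne : f 6 * t ≠ t * f 6 := by
    intro h
    have hV := n.K_mem_D h6 h
    exact hσ1 (by
      calc f 6 = f 6 * f 6 * f 6 * (f 6 * f 6)⁻¹ := by group
        _ = 1 := by rw [h63, n.dd.hVsq _ hV, one_mul, inv_one])
  have hst3 : f 6 * t * (f 6 * t) * (f 6 * t) = 1 := by
    obtain ⟨eK⟩ := n.iso_K
    have := a4_prod (eK ⟨f 6, h6⟩) (eK ⟨t, htK⟩) (by rw [← map_mul, ← map_one eK]; exact congrArg eK (Subtype.ext P.ht2))
      (fun h => P.t_ne (congrArg Subtype.val (eK.injective (h.trans (map_one eK).symm))))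
      (by rw [← map_mul, ← map_mul, ← map_one eK]; exact congrArg eK (Subtype.ext h63))
      (fun h => hσ1 (congrArg Subtype.val (eK.injective (h.trans (map_one eK).symm))))
    simp only [← map_mul] at this
    exact congrArg Subtype.val (eK.injective (this.trans (map_one eK).symm))
  have hcond : tCond w = true := by
    simp only [tCond, Bool.and_eq_true, beq_iff_eq, Bool.not_eq_true', beq_eq_false_iff_ne]
    refine ⟨⟨⟨⟨?_, ?_⟩, ?_⟩, ?_⟩, ?_⟩
    · exact c.code_eq hH (app hwlt hwlt) (by simp) (by rw [ev_append, hwt, P.ht2, ev_nil])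
    · exact fun h => P.t_ne (by rw [← hwt, transfer c.rel hwlt (w := []) (by simp) h, ev_nil])
    · exact c.code_eq hH (app hwlt (by simp)) (app (by simp) hwlt)
        (by rw [ev_append, ev_append, hwt, e1]; exact n.dd.hcomm t htV (f 1) h1)
    · exact c.code_eq hH (app (app (app (app (app hl12 hwlt) hl12) hwlt) hl12) hwlt) (by simp)
        (by simp only [ev_append, hwt, e6, ev_nil]; rw [← hst3]; group)
    · intro h
      have := transfer c.rel (app hl12 hwlt) (app hwlt hl12) h
      rw [ev_append, ev_append, hwt, e6] at this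
      exact hne this
  have h := List.all_eq_true.1 align_checks.1 _ (pev_mem_eltC hw)
  rw [← tCond_eq hwlt] at h
  simp only [hcond, Bool.not_true, Bool.false_or, List.any_eq_true, beq_iff_eq] at h
  obtain ⟨v, hv, hwv⟩ := h
  have hσV : ∀ x ∈ V, f 6 * x * (f 6)⁻¹ ∈ V ∧ (f 6)⁻¹ * x * f 6 ∈ V := fun x hx =>
    ⟨(mem_normalizer_iff.1 (n.hKN h6) x).1 hx, by
      have := (mem_normalizer_iff.1 (n.hKN (inv_mem h6)) x).1 hx
      simpa using this⟩
  have back : ∀ (u : List ℕ), (∀ l ∈ u, l < 20) → ∀ v ∈ sigConj u, pev w = pev v → ev f u ∈ V := by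
    intro u hu v hv hwv
    simp only [sigConj, List.mem_cons, List.not_mem_nil, or_false] at hv
    rcases hv with rfl | rfl | rfl
    · rw [← transfer c.rel hwlt hu hwv, hwt]; exact htV
    · have := transfer c.rel hwlt (app (app hl12 hu) (by simp)) hwv
      rw [hwt, ev_append, ev_append, e6, show ev f [13] = (f 6)⁻¹ by simp [ev, lval]] at this
      have h2 := (hσV t htV).2
      rw [this] at h2
      simpa [mul_assoc] using h2
    · have := transfer c.rel hwlt (app (app (by simp) hu) hl12) hwv
      rw [hwt, ev_append, ev_append, e6, show ev f [13] = (f 6)⁻¹ by simp [ev, lval]] at this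
      have h2 := (hσV t htV).1
      rw [this] at h2
      simpa [mul_assoc] using h2
  simp only [tTargets, List.mem_append] at hv
  rcases hv with hv | hv
  · refine ⟨f, c, h6, ?_, h1⟩
    rw [← ev_singleton f 9]
    exact back [18] (by simp) v hv hwv
  · refine ⟨fun i => ev f (awW.getD i []), aw_coords c, ?_, back [4, 6, 18] (by simp) v hv hwv, ?_⟩
    · show ev f [12, 12] ∈ K
      exact ev_mem fun l hl => by
        simp only [List.mem_cons, List.not_mem_nil, or_false, or_self] at hl
        rw [hl]; exact h6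
    · show ev f [2] ∈ B
      rw [e1]; exact h1

end CfsgLib.JTwoUniq
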