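import Cfsg.Agent.Lib.JTwoUniq.Main
import Cfsg.Agent.Lib.JTwoUniq.NotWeak

/-!
From the involution centralizer hypotheses to the setting of Hall-Janko type.
-/

set_option autoImplicit false
set_option linter.style.haveILetI false

namespace CfsgLib.JTwoUniq

open Subgroup CfsgLib.HJType

theorem iso_of_centralizer {G : Type*} [Group G] [Finite G] [IsSimpleGroup G] (t : G) (ht : orderOf t = 2)
    (Q : Subgroup (Subgroup.centralizer ({t} : Set G))) [Q.Normal] (hQ : Cfsg.IsExtraspecial 2 Q)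
    (hcard : Nat.card Q = 32)
    (h2c : Subgroup.centralizer (Q : Set (Subgroup.centralizer ({t} : Set G))) ≤ Q)
    (e : (Subgroup.centralizer ({t} : Set G)) ⧸ Q ≃* alternatingGroup (Fin 5))
    (htwo : ∃ x y : G, orderOf x = 2 ∧ orderOf y = 2 ∧ ¬ IsConj x y ∧
      ∀ z : G, orderOf z = 2 → IsConj z x ∨ IsConj z y) : Cfsg.Spor.IsoJ2 G := by
  set Q' := Q.map (Subgroup.centralizer ({t} : Set G)).subtype with hQ'
  have eQ := Q.equivMapOfInjective (Subgroup.centralizer ({t} : Set G)).subtype (Subgroup.centralizer ({t} : Set G)).subtype_injective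
  have pre : Pre t Q' := by
    refine ⟨ht, map_subtype_le Q, ?_, CfsgLib.LargeExtra.isExtraspecial_of_mulEquiv eQ hQ, ?_, ?_, ?_⟩
    · intro h hh
      refine mem_normalizer_iff.2 fun x => ⟨?_, ?_⟩
      · rintro ⟨q, hq, rfl⟩
        exact ⟨⟨h, hh⟩ * q * ⟨h, hh⟩⁻¹, (inferInstance : Q.Normal).conj_mem q hq _, rfl⟩
      · rintro ⟨q, hq, hqe⟩
        refine ⟨⟨h, hh⟩⁻¹ * q * ⟨h, hh⟩, by simpa using (inferInstance : Q.Normal).conj_mem q hq ⟨h, hh⟩⁻¹, ?_⟩
        show h⁻¹ * (q : G) * h = x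
        rw [show (q : G) = h * x * h⁻¹ from hqe]
        group
    · rw [← Nat.card_congr eQ.toEquiv, hcard]
    · have h := card_mul_index Q
      rw [index_eq_card, Nat.card_congr e.toEquiv, a5_card, hcard] at h
      rw [← h]
    · intro x hx hc
      refine ⟨⟨x, hx⟩, h2c (mem_centralizer_iff.2 fun q hq => Subtype.ext ?_), rfl⟩
      exact (hc q ⟨q, hq, rfl⟩).symm
  obtain ⟨x, y, hx, hy, hxy, -⟩ := htwo
  exact iso_j2 ⟨pre.hz, pre.hQH, pre.hnorm, pre.hE, pre.h32, pre.hH, pre.hself, pre.not_weak⟩ ⟨x, y, hx, hy, hxy⟩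

end CfsgLib.JTwoUniq
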