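import Mathlib

/-!
# Certificates for coset enumerations

An edge `(u, L, v)` of a certificate asserts `R u * L * (R v)⁻¹ ∈ H`, where `R` is the product of the letters on
the path from the point to the base point in a spanning tree, and the letter `L = n` stands for the identity.
Each edge is either an edge of the tree, or a generator of `H` at the base point, or is closed by a relation
together with earlier edges.
-/

set_option autoImplicit false

namespace CfsgLib.JTwoUniq.Coset

variable {Γ : Type*} [Group Γ]

/-- The value of a letter: `2 * i` is the `i`-th generator, `2 * i + 1` its inverse. -/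
def lval (g : ℕ → Γ) (l : ℕ) : Γ := if l % 2 = 0 then g (l / 2) else (g (l / 2))⁻¹

/-- The value of a word. -/
def ev (g : ℕ → Γ) (w : List ℕ) : Γ := (w.map (lval g)).prod

/-- The inverse letter. -/
def flipL (l : ℕ) : ℕ := if l % 2 = 0 then l + 1 else l - 1

/-- The inverse word. -/
def invW (w : List ℕ) : List ℕ := (w.map flipL).reverse

/-- Free reduction. -/
def red : List ℕ → List ℕ
  | [] => []
  | a :: w => match red w with
    | [] => [a]
    | b :: r => if flipL a == b then r else a :: b :: r

variable {g : ℕ → Γ}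

theorem lval_even (k : ℕ) : lval g (2 * k) = g k := by
  rw [lval, if_pos (by omega), show 2 * k / 2 = k by omega]

theorem lval_odd (k : ℕ) : lval g (2 * k + 1) = (g k)⁻¹ := by
  rw [lval, if_neg (by omega), show (2 * k + 1) / 2 = k by omega]

theorem lval_flip (l : ℕ) : lval g (flipL l) = (lval g l)⁻¹ := by
  rcases Nat.even_or_odd' l with ⟨k, rfl | rfl⟩
  · rw [flipL, if_pos (by omega), lval_even, lval_odd]
  · rw [flipL, if_neg (by omega), Nat.add_sub_cancel, lval_even, lval_odd, inv_inv]

theorem ev_nil : ev g [] = 1 := rfl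

theorem ev_cons (a : ℕ) (w : List ℕ) : ev g (a :: w) = lval g a * ev g w := by simp [ev]

theorem ev_append (v w : List ℕ) : ev g (v ++ w) = ev g v * ev g w := by simp [ev]

theorem ev_invW : ∀ w : List ℕ, ev g (invW w) = (ev g w)⁻¹
  | [] => by simp [invW, ev]
  | a :: w => by
    have h := ev_invW w
    simp only [invW] at h ⊢
    rw [List.map_cons, List.reverse_cons, ev_append, h, ev_cons, ev_cons, ev_nil, mul_one, lval_flip, mul_inv_rev]

theorem ev_red : ∀ w : List ℕ, ev g (red w) = ev g w
  | [] => rfl
  | a :: w => by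
    have h := ev_red w
    rw [red, ev_cons]
    rcases hr : red w with _ | ⟨b, r⟩
    · rw [hr] at h
      simp only
      rw [ev_cons, h]
    · rw [hr] at h
      rw [← h, ev_cons]
      simp only
      split_ifs with hab
      · rw [beq_iff_eq] at hab
        rw [← hab, lval_flip, mul_inv_cancel_left]
      · rw [ev_cons, ev_cons]

theorem ev_rot (w : List ℕ) (i : ℕ) (h : ev g w = 1) : ev g (w.drop i ++ w.take i) = 1 := by
  rw [ev_append]
  rw [← List.take_append_drop i w, ev_append] at h
  rw [eq_inv_of_mul_eq_one_left h, mul_inv_cancel]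

/-- The reader of the digits of a packed number, least significant first; the first digit is the length. -/
def digits (x : ℕ) : List ℕ := (List.range (x % 65536)).map fun j => x / 65536 ^ (j + 1) % 65536

/-- A certificate. -/
structure Cert where
  /-- The number of generators. -/
  ngen : ℕ
  /-- The relators. -/
  rels : List (List ℕ)
  /-- The generators of the subgroup. -/
  subs : List ℕ
  /-- The edges, packed by 1024. -/
  tbl : List ℕ
  /-- The tree, packed by 1024: parent and letter. -/
  par : List ℕ

namespace Cert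

variable (c : Cert)

/-- The word of an edge letter. -/
def letterW (L : ℕ) : List ℕ := if L == c.ngen then [] else [2 * L]

/-- An edge. -/
def edge (i : ℕ) : ℕ := c.tbl.getD (i / 1024) 0 / 2 ^ (40 * (i % 1024)) % 2 ^ 40

/-- The source of an edge. -/
def src (i : ℕ) : ℕ := c.edge i % 65536

/-- The letter of an edge. -/
def let' (i : ℕ) : ℕ := c.edge i / 65536 % 256

/-- The target of an edge. -/
def dst (i : ℕ) : ℕ := c.edge i / 2 ^ 24

/-- The tree entry of a point. -/
def parent (v : ℕ) : ℕ := c.par.getD (v / 1024) 0 / 2 ^ (24 * (v % 1024)) % 2 ^ 24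

/-- The element of a point. -/
def rep (g : ℕ → Γ) (v : ℕ) : Γ :=
  if _h : c.parent v % 65536 < v then rep g (c.parent v % 65536) * lval g (c.parent v / 65536) else 1
termination_by v

/-- The start of a directed edge `2 * i + d`. -/
def dsrc (e : ℕ) : ℕ := if e % 2 == 0 then c.src (e / 2) else c.dst (e / 2)

/-- The end of a directed edge. -/
def ddst (e : ℕ) : ℕ := if e % 2 == 0 then c.dst (e / 2) else c.src (e / 2)

/-- The word of a directed edge. -/
def dword (e : ℕ) : List ℕ :=
  if e % 2 == 0 then c.letterW (c.let' (e / 2)) else invW (c.letterW (c.let' (e / 2)))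

/-- A path from `u` to `v` through edges below `i`. -/
def pathB (i : ℕ) : ℕ → ℕ → List ℕ → Bool
  | u, v, [] => u == v
  | u, v, e :: p => decide (e / 2 < i) && (c.dsrc e == u) && pathB i (c.ddst e) v p

/-- The word of a path. -/
def pword : List ℕ → List ℕ
  | [] => []
  | e :: p => c.dword e ++ pword p

/-- The word of a relation code: `0` is trivial, `1 + 2 * k + d` the relator `k`, inverted if `d = 1`. -/
def relW (code rot : ℕ) : List ℕ :=
  if code == 0 then []
  else
    let w := c.rels.getD ((code - 1) / 2) []
    let r := w.drop rot ++ w.take rot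
    if (code - 1) % 2 == 0 then r else invW r

/-- The justification of an edge: first the kind. -/
def stepB (i : ℕ) (j : List ℕ) : Bool :=
  match j with
  | [0] => (c.parent (c.dst i) % 65536 < c.dst i) && (c.parent (c.dst i) % 65536 == c.src i) &&
      (c.parent (c.dst i) / 65536 == 2 * c.let' i) && decide (c.let' i < c.ngen)
  | [1] => (c.parent (c.src i) % 65536 < c.src i) && (c.parent (c.src i) % 65536 == c.dst i) &&
      (c.parent (c.src i) / 65536 == 2 * c.let' i + 1) && decide (c.let' i < c.ngen)
  | [2] => (c.src i == 0) && (c.dst i == 0) && c.subs.contains (c.let' i) && decide (c.let' i < c.ngen)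
  | _ :: code :: rot :: p => c.pathB i (c.src i) (c.dst i) p &&
      (red (invW (c.letterW (c.let' i)) ++ c.pword p) == red (c.relW code rot))
  | _ => false

/-- A chunk of justifications, starting at `base`. -/
def chunkB : ℕ → List ℕ → Bool
  | _, [] => true
  | base, x :: xs => c.stepB base (digits x) && chunkB (base + 1) xs

/-- The meaning of an edge. -/
def Valid (H : Subgroup Γ) (g : ℕ → Γ) (i : ℕ) : Prop :=
  c.rep g (c.src i) * ev g (c.letterW (c.let' i)) * (c.rep g (c.dst i))⁻¹ ∈ H

variable {c} {H : Subgroup Γ}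

theorem rep_child {v : ℕ} (h : c.parent v % 65536 < v) :
    c.rep g v = c.rep g (c.parent v % 65536) * lval g (c.parent v / 65536) := by
  rw [rep, dif_pos h]

theorem ev_letter {L : ℕ} (h : L < c.ngen) : ev g (c.letterW L) = g L := by
  simp [letterW, Nat.ne_of_lt h, ev, lval, show 2 * L / 2 = L by omega]

theorem dword_valid {e : ℕ} (h : c.Valid H g (e / 2)) :
    c.rep g (c.dsrc e) * ev g (c.dword e) * (c.rep g (c.ddst e))⁻¹ ∈ H := by
  unfold Valid at h
  unfold dsrc ddst dword
  split_ifs
  · exact h
  · rw [ev_invW]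
    have := H.inv_mem h
    simpa [mul_inv_rev, mul_assoc] using this

theorem path_valid {i : ℕ} (hi : ∀ e < i, c.Valid H g e) : ∀ (p : List ℕ) (u v : ℕ), c.pathB i u v p = true →
    c.rep g u * ev g (c.pword p) * (c.rep g v)⁻¹ ∈ H
  | [], u, v, h => by
    simp only [pathB, beq_iff_eq] at h
    simp [pword, ev, h]
  | e :: p, u, v, h => by
    simp only [pathB, Bool.and_eq_true, decide_eq_true_eq, beq_iff_eq] at h
    obtain ⟨⟨h1, rfl⟩, h3⟩ := h
    have a := dword_valid (hi _ h1)
    have b := path_valid hi p _ _ h3
    rw [pword, ev_append]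
    convert H.mul_mem a b using 1
    group

theorem step_valid (hrel : ∀ w ∈ c.rels, ev g w = 1) (hsub : ∀ L ∈ c.subs, g L ∈ H) {i : ℕ} {j : List ℕ}
    (h : c.stepB i j = true) (hi : ∀ e < i, c.Valid H g e) : c.Valid H g i := by
  unfold Valid
  unfold stepB at h
  split at h
  · simp only [Bool.and_eq_true, decide_eq_true_eq, beq_iff_eq] at h
    obtain ⟨⟨⟨h1, h2⟩, h3⟩, h4⟩ := h
    rw [rep_child h1, h2, h3, ev_letter h4, lval, if_pos (by omega), show 2 * c.let' i / 2 = c.let' i by omega,
      mul_inv_rev]
    convert H.one_mem using 1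
    group
  · simp only [Bool.and_eq_true, decide_eq_true_eq, beq_iff_eq] at h
    obtain ⟨⟨⟨h1, h2⟩, h3⟩, h4⟩ := h
    rw [rep_child h1, h2, h3, ev_letter h4, lval, if_neg (by omega),
      show (2 * c.let' i + 1) / 2 = c.let' i by omega]
    convert H.one_mem using 1
    group
  · simp only [Bool.and_eq_true, decide_eq_true_eq, beq_iff_eq, List.contains_iff_mem] at h
    obtain ⟨⟨⟨h1, h2⟩, h3⟩, h4⟩ := h
    rw [h1, h2, ev_letter h4, rep, dif_neg (Nat.not_lt_zero _), one_mul, inv_one, mul_one]
    exact hsub _ h3
  · rename_i code rot p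
    simp only [Bool.and_eq_true, beq_iff_eq] at h
    obtain ⟨h1, h2⟩ := h
    have hw := congrArg (ev g) h2
    rw [ev_red, ev_red, ev_append, ev_invW] at hw
    have hone : ev g (c.relW code rot) = 1 := by
      unfold relW
      split_ifs with h0 hd
      · rfl
      · by_cases hk : (code - 1) / 2 < c.rels.length
        · rw [List.getD_eq_getElem _ _ hk]
          exact ev_rot _ _ (hrel _ (List.getElem_mem hk))
        · rw [List.getD_eq_default _ _ (by omega)]
          simp [ev]
      · rw [ev_invW, inv_eq_one]
        by_cases hk : (code - 1) / 2 < c.rels.length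
        · rw [List.getD_eq_getElem _ _ hk]
          exact ev_rot _ _ (hrel _ (List.getElem_mem hk))
        · rw [List.getD_eq_default _ _ (by omega)]
          simp [ev]
    rw [hone] at hw
    have := path_valid hi p _ _ h1
    rwa [← inv_mul_eq_one.1 hw] at this
  · exact absurd h Bool.false_ne_true

theorem chunks_valid (hrel : ∀ w ∈ c.rels, ev g w = 1) (hsub : ∀ L ∈ c.subs, g L ∈ H) :
    ∀ (xs : List ℕ) (base : ℕ), c.chunkB base xs = true → (∀ e < base, c.Valid H g e) →
      ∀ e < base + xs.length, c.Valid H g e
  | [], base, _, hb => by simpa using hb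
  | x :: xs, base, h, hb => by
    simp only [chunkB, Bool.and_eq_true] at h
    have hx := step_valid hrel hsub h.1 hb
    have := chunks_valid hrel hsub xs (base + 1) h.2 fun e he => by
      rcases Nat.lt_succ_iff_lt_or_eq.1 he with he | rfl
      · exact hb e he
      · exact hx
    intro e he
    exact this e (by rw [List.length_cons] at he; omega)

/-- The final table: for each live point and each generator an edge. -/
def goalB (live : List ℕ) (goals : List (List ℕ)) (n : ℕ) : Bool :=
  live.contains 0 && (live.length == goals.length) &&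
    (live.zip goals).all fun q => (q.2.length == c.ngen) &&
      (List.range c.ngen).all fun L =>
        let e := q.2.getD L 0
        decide (e < n) && (c.src e == q.1) && (c.let' e == L) && live.contains (c.dst e)

theorem card_le (hH : (H : Set Γ).Finite) (live : List ℕ) (goals : List (List ℕ)) (n : ℕ)
    (hg : c.goalB live goals n = true) (hv : ∀ e < n, c.Valid H g e)
    (hgen : Subgroup.closure (g '' {i | i < c.ngen}) = ⊤) :
    Finite Γ ∧ Nat.card Γ ≤ live.length * Nat.card H := by
  simp only [goalB, Bool.and_eq_true, List.contains_iff_mem, beq_iff_eq, List.all_eq_true,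
    List.mem_range, decide_eq_true_eq] at hg
  obtain ⟨⟨h0, hlen⟩, hq⟩ := hg
  have hrow : ∀ u ∈ live, ∀ L < c.ngen, ∃ v ∈ live, c.rep g u * g L * (c.rep g v)⁻¹ ∈ H := by
    intro u hu L hL
    obtain ⟨k, hk, rfl⟩ := List.getElem_of_mem hu
    have hk' : k < goals.length := hlen ▸ hk
    have hmem : (live[k], goals[k]) ∈ live.zip goals :=
      List.mem_iff_getElem.2 ⟨k, by simp [hk, hk'], by simp⟩
    obtain ⟨⟨⟨he, hs⟩, hl⟩, hd⟩ := (hq _ hmem).2 L hL
    refine ⟨_, hd, ?_⟩
    have := hv _ he
    rw [Valid, hs, hl, ev_letter hL] at this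
    exact this
  let f : ↥H × {u // u ∈ live} → Γ := fun q => q.1 * c.rep g q.2
  have : Finite ↥H := hH.to_subtype
  set S := Set.range f with hS
  have hSfin : S.Finite := Set.finite_range f
  have hone : (1 : Γ) ∈ S := ⟨(⟨1, H.one_mem⟩, ⟨0, h0⟩), by
    show (1 : Γ) * c.rep g 0 = 1
    rw [one_mul, rep, dif_neg (Nat.not_lt_zero _)]⟩
  have hmul : ∀ s ∈ S, ∀ L < c.ngen, s * g L ∈ S := by
    rintro _ ⟨⟨h, u, hu⟩, rfl⟩ L hL
    obtain ⟨v, hv', hm⟩ := hrow u hu L hL
    refine ⟨(⟨_, H.mul_mem h.2 hm⟩, ⟨v, hv'⟩), ?_⟩
    show (h : Γ) * (c.rep g u * g L * (c.rep g v)⁻¹) * c.rep g v = h * c.rep g u * g L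
    group
  let M : Subgroup Γ :=
    { carrier := {x | (fun s => s * x) '' S = S}
      one_mem' := by simp
      mul_mem' := fun {a b} ha hb => by
        simp only [Set.mem_ofPred_eq] at ha hb ⊢
        conv_rhs => rw [← hb, ← ha, Set.image_image]
        simp [mul_assoc]
      inv_mem' := fun {a} ha => by
        simp only [Set.mem_ofPred_eq] at ha ⊢
        conv_lhs => rw [← ha, Set.image_image]
        simp }
  have hM : ⊤ ≤ M := by
    rw [← hgen, Subgroup.closure_le]
    rintro _ ⟨L, hL, rfl⟩
    show (fun s => s * g L) '' S = S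
    exact Set.eq_of_subset_of_ncard_le (Set.image_subset_iff.2 fun s hs => hmul s hs L hL)
      (Set.ncard_image_of_injective S (mul_left_injective _)).ge hSfin
  have hall : S = Set.univ := Set.eq_univ_iff_forall.2 fun x => by
    have hx : (fun s => s * x) '' S = S := hM (Subgroup.mem_top x)
    exact hx ▸ ⟨1, hone, one_mul x⟩
  have hsurj : Function.Surjective f := Set.range_eq_univ.1 hall
  refine ⟨Finite.of_surjective f hsurj, (Nat.card_le_card_of_surjective f hsurj).trans ?_⟩
  rw [Nat.card_prod, mul_comm]
  refine Nat.mul_le_mul_right _ ?_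
  classical
  rw [Nat.card_eq_fintype_card]
  exact (Fintype.card_of_subtype live.toFinset fun x => List.mem_toFinset).le.trans live.toFinset_card_le

end Cert

end CfsgLib.JTwoUniq.Coset
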