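import Cfsg.Agent.Lib.JTwoUniq.Cert
import Cfsg.Agent.Lib.JTwoUniq.Data.Rels
import Cfsg.Agent.Lib.JTwoUniq.Data.CertQ
import Cfsg.Agent.Lib.JTwoUniq.Data.CertC
import Cfsg.Agent.Lib.JTwoUniq.Data.CertJ
import Cfsg.Agent.Lib.JTwoUniq.Data.CertK

/-!
The four certificates.
-/

set_option autoImplicit false

namespace CfsgLib.JTwoUniq

open Coset

/-- The extraspecial group over its centre. -/
def certQ : Cert := ⟨6, Data.relQ, [0], Data.tblQ, Data.parQ⟩

/-- The centralizer over its extraspecial subgroup. -/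
def certC : Cert := ⟨10, Data.relC, [0, 1, 2, 3, 4, 5], Data.tblC, Data.parC⟩

/-- The whole group over the centralizer. -/
def certJ : Cert :=
  ⟨12, Data.relC ++ Data.relD ++ Data.relT ++ [Data.wordJ], [0, 1, 2, 3, 4, 5, 6, 7, 8, 9], Data.tblJ, Data.parJ⟩

/-- The collapsing case. -/
def certK : Cert :=
  ⟨12, Data.relC ++ Data.relD ++ Data.relT ++ [Data.wordK], [0, 1, 2, 3, 4, 5, 6, 7, 8, 9], Data.tblK, Data.parK⟩

end CfsgLib.JTwoUniq
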