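import Cfsg.Agent.Lib.JTwoUniq.Model
import Cfsg.Agent.Lib.HJType.Normalizer

/-!
Coordinates on the centralizer of the involution: generators satisfying the presentation, aligned with the
normalizer of the four-group.
-/

set_option autoImplicit false
set_option linter.style.haveILetI false
set_option maxRecDepth 100000

namespace CfsgLib.JTwoUniq

open Coset CfsgLib.HJType Subgroup

/-- The permutation of `σ`. -/
def sb : Equiv.Perm (Fin 5) := ⟨![0, 1, 3, 4, 2], ![0, 1, 4, 2, 3], by decide, by decide⟩

/-- The permutation of `a`. -/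
def ab : Equiv.Perm (Fin 5) := ⟨![2, 4, 0, 3, 1], ![2, 4, 0, 3, 1], by decide, by decide⟩

/-- The signs of a product. -/
def cmpE (eg : Fin 5 → Bool) (ph : Equiv.Perm (Fin 5)) (eh : Fin 5 → Bool) : Fin 5 → Bool :=
  fun i => xor (eh i) (eg (ph i))

/-- The signs of a fifth power. -/
def five (p : Equiv.Perm (Fin 5)) (e : Fin 5 → Bool) : Fin 5 → Bool :=
  cmpE e (p * (p * (p * p))) (cmpE e (p * (p * p)) (cmpE e (p * p) (cmpE e p e)))

theorem perm_facts : Equiv.Perm.sign ab = 1 ∧ ab ≠ 1 ∧ ab * ab = 1 ∧ sb * (sb * sb) = 1 ∧ sb * ab ≠ 1 ∧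
    (sb * ab) * ((sb * ab) * ((sb * ab) * ((sb * ab) * (sb * ab)))) = 1 := by decide +kernel

theorem perm_relabel : ∀ s : Equiv.Perm (Fin 5), Equiv.Perm.sign s = 1 → s ≠ 1 → s * s * s = 1 →
    ∀ i, s i = i → ∃ π : Equiv.Perm (Fin 5), π 0 = i ∧ ∀ j, s (π j) = π (sb j) := by decide +kernel

theorem cocycle : ∀ a0 a1 a2 a3 a4 s0 s1 s2 s3 s4 : Bool,
    (∀ i, cmpE ![a0, a1, a2, a3, a4] ab ![a0, a1, a2, a3, a4] i = false) →
    (∀ i, cmpE ![s0, s1, s2, s3, s4] (sb * sb)
      (cmpE ![s0, s1, s2, s3, s4] sb ![s0, s1, s2, s3, s4]) i = false) →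
    (∀ i, five (sb * ab) (cmpE ![s0, s1, s2, s3, s4] ab ![a0, a1, a2, a3, a4]) i = false) →
    ∃ d0 d1 d2 d3 d4 : Bool, ∀ i,
      ![a0, a1, a2, a3, a4] i = xor (![d0, d1, d2, d3, d4] i) (![d0, d1, d2, d3, d4] (ab i)) ∧
      ![s0, s1, s2, s3, s4] i = xor (![d0, d1, d2, d3, d4] i) (![d0, d1, d2, d3, d4] (sb i)) := by
  decide +kernel

variable {G : Type*} [Group G] {z : G} {Q : Subgroup G}

/-- `z` or the identity. -/
def zb (z : G) (b : Bool) : G := if b then z else 1

/-- An element acting on five elements as a permutation with signs. -/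
def Act (z : G) (y : Fin 5 → G) (g : G) (p : Equiv.Perm (Fin 5)) (e : Fin 5 → Bool) : Prop :=
  ∀ i, g * y i * g⁻¹ = zb z (e i) * y (p i)

theorem zb_mem (hz : z * z = 1) (a b : Bool) : zb z a * zb z b = zb z (xor a b) := by
  cases a <;> cases b <;> simp [zb, hz]

theorem zb_comm {h : G} (hh : h * z = z * h) (b : Bool) : h * zb z b = zb z b * h := by
  cases b <;> simp [zb, hh]

theorem Act.mul {y : Fin 5 → G} {g h : G} {p q : Equiv.Perm (Fin 5)} {e d : Fin 5 → Bool} (hz : z * z = 1)
    (hg : g * z = z * g) (a : Act z y g p e) (b : Act z y h q d) : Act z y (g * h) (p * q) (cmpE e q d) := by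
  intro i
  calc g * h * y i * (g * h)⁻¹ = g * (h * y i * h⁻¹) * g⁻¹ := by group
    _ = g * zb z (d i) * y (q i) * g⁻¹ := by rw [b i]; group
    _ = zb z (d i) * (g * y (q i) * g⁻¹) := by rw [zb_comm hg]; group
    _ = _ := by rw [a (q i), ← mul_assoc, zb_mem hz]; rfl

theorem Act.eq_one {y : Fin 5 → G} {g : G} {p : Equiv.Perm (Fin 5)} {e : Fin 5 → Bool} (hz : z ≠ 1)
    (a : Act z y g p e) (hg : g = 1) (hp : p = 1) : ∀ i, e i = false := by
  intro i
  have h := a i
  rw [hg, hp, one_mul, inv_one, mul_one, Equiv.Perm.one_apply] at h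
  cases he : e i
  · rfl
  · rw [he] at h
    exact absurd (mul_eq_right.1 h.symm) (by simpa [zb] using hz)

/-- The generators from signed representatives and two elements. -/
def coordFun (z : G) (y : Fin 5 → G) (s a : G) : ℕ → G
  | 0 => z
  | 1 => y 0
  | 2 => y 1
  | 3 => y 2
  | 4 => y 3
  | 5 => y 4
  | 6 => s
  | 7 => a
  | 8 => ev (fun i => if i = 6 then s else if i = 7 then a else 1) Data.wordG
  | 9 => ev (fun i => if i = 6 then s else if i = 7 then a else 1) Data.wordT
  | _ => 1

/-- The relators, by shape. -/
def relShape : List (List ℕ) :=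
  ([0, 1, 2, 3, 4, 5, 7].map fun i => [2 * i, 2 * i]) ++
    [[12, 12, 12], [12, 14, 12, 14, 12, 14, 12, 14, 12, 14], [2, 4, 6, 8, 10]] ++
    ([1, 2, 3, 4, 5, 6, 7].map fun i => [0, 2 * i, 1, 2 * i + 1]) ++
    ((List.finRange 5).flatMap fun (i : Fin 5) => (List.finRange 5).map fun (j : Fin 5) =>
      if i = j then [2 * (i : ℕ) + 2, 2 * (i : ℕ) + 2]
      else [2 * (i : ℕ) + 2, 2 * (j : ℕ) + 2, 2 * (i : ℕ) + 2, 2 * (j : ℕ) + 2, 0]) ++
    ((List.finRange 5).map fun (j : Fin 5) => [12, 2 * (j : ℕ) + 2, 13, 2 * (sb j : ℕ) + 3]) ++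
    ((List.finRange 5).map fun (j : Fin 5) => [14, 2 * (j : ℕ) + 2, 15, 2 * (ab j : ℕ) + 3]) ++
    [16 :: invW Data.wordG, 18 :: invW Data.wordT]

theorem shape_checks : Data.relC.all (fun w => relShape.contains w) = true ∧
    (Data.wordG ++ Data.wordT).all (fun l => l / 2 == 6 || l / 2 == 7) = true := by
  refine ⟨?_, ?_⟩ <;> decide +kernel

theorem coordFun_rel {y : Fin 5 → G} {s a : G} (hz : z * z = 1) (hys : ∀ i, y i * y i = 1)
    (hzy : ∀ i, y i * z = z * y i) (hzs : s * z = z * s) (hza : a * z = z * a)
    (hs : s * s * s = 1) (ha : a * a = 1) (hu : (s * a) * ((s * a) * ((s * a) * ((s * a) * (s * a)))) = 1)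
    (hprod : y 0 * (y 1 * (y 2 * (y 3 * y 4))) = 1) (hanti : ∀ i j, i ≠ j → y i * y j = z * (y j * y i))
    (hcs : ∀ i, s * y i * s⁻¹ = y (sb i)) (hca : ∀ i, a * y i * a⁻¹ = y (ab i)) :
    ∀ w ∈ Data.relC, ev (coordFun z y s a) w = 1 := by
  intro w hw
  have hw' : w ∈ relShape := by simpa using List.all_eq_true.1 shape_checks.1 w hw
  set f := coordFun z y s a with hf
  have hy : ∀ i : Fin 5, f ((i : ℕ) + 1) = y i := by intro i; fin_cases i <;> rfl
  have hG : ∀ l ∈ Data.wordG ++ Data.wordT, f (l / 2) = (fun i => if i = 6 then s else if i = 7 then a else 1) (l / 2) := by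
    intro l hl
    have := List.all_eq_true.1 shape_checks.2 l hl
    simp only [Bool.or_eq_true, beq_iff_eq] at this
    rcases this with h | h <;> rw [h] <;> rfl
  simp only [relShape, List.mem_append, List.mem_map, List.mem_flatMap, List.mem_finRange, List.mem_cons,
    List.not_mem_nil, or_false, true_and] at hw'
  rcases hw' with (((((⟨i, hi, rfl⟩ | rfl | rfl | rfl) | ⟨i, hi, rfl⟩) | ⟨i, j, rfl⟩) | ⟨j, rfl⟩) | ⟨j, rfl⟩) |
    rfl | rfl
  · rw [ev_cons, ev_singleton, lval_even]
    rcases hi with rfl | rfl | rfl | rfl | rfl | rfl | rfl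
    exacts [hz, hys 0, hys 1, hys 2, hys 3, hys 4, ha]
  · rw [show [12, 12, 12] = [2 * 6, 2 * 6, 2 * 6] from rfl]
    simp only [ev_cons, ev_nil, lval_even, mul_one]
    rw [← mul_assoc]; exact hs
  · rw [show [12, 14, 12, 14, 12, 14, 12, 14, 12, 14] =
      [2 * 6, 2 * 7, 2 * 6, 2 * 7, 2 * 6, 2 * 7, 2 * 6, 2 * 7, 2 * 6, 2 * 7] from rfl]
    simp only [ev_cons, ev_nil, lval_even, mul_one]
    rw [show f 6 = s from rfl, show f 7 = a from rfl]
    simp only [mul_assoc] at hu ⊢
    exact hu
  · rw [show [2, 4, 6, 8, 10] = [2 * 1, 2 * 2, 2 * 3, 2 * 4, 2 * 5] from rfl]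
    simp only [ev_cons, ev_nil, lval_even, mul_one]
    exact hprod
  · rw [show [0, 2 * i, 1, 2 * i + 1] = [2 * 0, 2 * i, 2 * 0 + 1, 2 * i + 1] from rfl]
    simp only [ev_cons, ev_nil, lval_even, lval_odd, mul_one]
    rw [show f 0 = z from rfl]
    have hc : f i * z = z * f i := by
      rcases hi with rfl | rfl | rfl | rfl | rfl | rfl | rfl
      exacts [hzy 0, hzy 1, hzy 2, hzy 3, hzy 4, hzs, hza]
    calc z * (f i * (z⁻¹ * (f i)⁻¹)) = z * f i * z⁻¹ * (f i)⁻¹ := by group
      _ = 1 := by rw [← hc]; group
  · split_ifs with hij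
    · rw [ev_cons, show 2 * (i : ℕ) + 2 = 2 * ((i : ℕ) + 1) by ring, ev_singleton, lval_even, hy]
      exact hys i
    · rw [show 2 * (i : ℕ) + 2 = 2 * ((i : ℕ) + 1) by ring, show 2 * (j : ℕ) + 2 = 2 * ((j : ℕ) + 1) by ring]
      simp only [ev_cons, ev_nil, lval_even, mul_one, hy]
      rw [show lval f 0 = z from rfl]
      calc y i * (y j * (y i * (y j * z))) = y i * y j * (y i * y j) * z := by group
        _ = z * (y j * y i) * (y i * y j) * z := by rw [← hanti i j hij]
        _ = z * (y j * (y i * y i) * y j) * z := by group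
        _ = 1 := by rw [hys, mul_one, hys, mul_one, hz]
  · rw [show 2 * (j : ℕ) + 2 = 2 * ((j : ℕ) + 1) by ring, show 2 * (sb j : ℕ) + 3 = 2 * ((sb j : ℕ) + 1) + 1 by ring,
      show (12 : ℕ) = 2 * 6 from rfl, show (13 : ℕ) = 2 * 6 + 1 from rfl]
    simp only [ev_cons, ev_nil, lval_even, lval_odd, mul_one, hy]
    rw [show f 6 = s from rfl, ← hcs j]
    group
  · rw [show 2 * (j : ℕ) + 2 = 2 * ((j : ℕ) + 1) by ring, show 2 * (ab j : ℕ) + 3 = 2 * ((ab j : ℕ) + 1) + 1 by ring,
      show (14 : ℕ) = 2 * 7 from rfl, show (15 : ℕ) = 2 * 7 + 1 from rfl]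
    simp only [ev_cons, ev_nil, lval_even, lval_odd, mul_one, hy]
    rw [show f 7 = a from rfl, ← hca j]
    group
  · rw [ev_cons, ev_invW, ev_congr (g' := fun i => if i = 6 then s else if i = 7 then a else 1) fun l hl => hG l (List.mem_append.2 (Or.inl hl))]
    exact mul_inv_cancel _
  · rw [ev_cons, ev_invW, ev_congr (g' := fun i => if i = 6 then s else if i = 7 then a else 1) fun l hl => hG l (List.mem_append.2 (Or.inr hl))]
    exact mul_inv_cancel _

/-- Coordinates on the centralizer. -/
structure Coords (z : G) (Q : Subgroup G) (f : ℕ → G) : Prop where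
  f0 : f 0 = z
  rel : ∀ w ∈ Data.relC, ev f w = 1
  gen : Subgroup.closure (f '' {i | i < 10}) = centralizer ({z} : Set G)
  fQ : f 1 ∈ Q

/-- Words giving all the even permutations: `false` is `σ`, `true` is `a`. -/
def words60 : List (List Bool) := [
  [],
  [false],
  [true],
  [false, false],
  [false, true],
  [true, false],
  [false, false, true],
  [false, true, false],
  [true, false, false],
  [true, false, true],
  [false, false, true, false],
  [false, true, false, false],
  [false, true, false, true],
  [true, false, false, true],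
  [true, false, true, false],
  [false, false, true, false, false],
  [false, false, true, false, true],
  [false, true, false, false, true],
  [false, true, false, true, false],
  [true, false, false, true, false],
  [true, false, true, false, false],
  [true, false, true, false, true],
  [false, false, true, false, false, true],
  [false, false, true, false, true, false],
  [false, true, false, false, true, false],
  [false, true, false, true, false, false],
  [false, true, false, true, false, true],
  [true, false, false, true, false, true],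
  [true, false, true, false, false, true],
  [false, false, true, false, false, true, false],
  [false, false, true, false, true, false, false],
  [false, false, true, false, true, false, true],
  [false, true, false, false, true, false, true],
  [false, true, false, true, false, false, true],
  [true, false, false, true, false, true, false],
  [true, false, true, false, false, true, false],
  [false, false, true, false, false, true, false, true],
  [false, false, true, false, true, false, false, true],
  [false, true, false, false, true, false, true, false],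
  [false, true, false, true, false, false, true, false],
  [true, false, false, true, false, true, false, false],
  [true, false, false, true, false, true, false, true],
  [true, false, true, false, false, true, false, true],
  [false, false, true, false, false, true, false, true, false],
  [false, false, true, false, true, false, false, true, false],
  [false, true, false, false, true, false, true, false, false],
  [false, true, false, false, true, false, true, false, true],
  [false, true, false, true, false, false, true, false, true],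
  [true, false, false, true, false, true, false, false, true],
  [true, false, true, false, false, true, false, true, false],
  [false, false, true, false, false, true, false, true, false, false],
  [false, false, true, false, false, true, false, true, false, true],
  [false, false, true, false, true, false, false, true, false, true],
  [false, true, false, false, true, false, true, false, false, true],
  [true, false, false, true, false, true, false, false, true, false],
  [true, false, true, false, false, true, false, true, false, false],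
  [false, true, false, false, true, false, true, false, false, true, false],
  [true, false, false, true, false, true, false, false, true, false, true],
  [true, false, true, false, false, true, false, true, false, false, true],
  [false, true, false, false, true, false, true, false, false, true, false, true]]

theorem perm_gen : ∀ τ : Equiv.Perm (Fin 5), Equiv.Perm.sign τ = 1 →
    ∃ w ∈ words60, (w.map fun b => if b then ab else sb).prod = τ := by decide +kernel

namespace Coords

variable [Finite G] {f : ℕ → G} (c : Coords z Q f)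
include c

theorem mem {i : ℕ} (hi : i < 10) : f i ∈ centralizer ({z} : Set G) :=
  c.gen ▸ subset_closure ⟨i, hi, rfl⟩

theorem lift {x : G} (hx : x ∈ centralizer ({z} : Set G)) : ∃ w ∈ eltWords, ev f w = x :=
  exists_word c.rel (by rwa [c.gen])

theorem code_eq (hH : Nat.card (centralizer ({z} : Set G)) = 1920) {v w : List ℕ} (hv : ∀ l ∈ v, l < 20)
    (hw : ∀ l ∈ w, l < 20) (h : ev f v = ev f w) : pev v = pev w :=
  reflect c.rel (by rw [c.gen, hH]) hv hw h

end Coords

end CfsgLib.JTwoUniq
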