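import Cfsg.Agent.Lib.JTwoUniq.Checks.Q0

/-!
All edges of certificate Q are valid.
-/

set_option autoImplicit false
set_option maxRecDepth 100000

namespace CfsgLib.JTwoUniq

open Coset

variable {Γ : Type*} [Group Γ] {H : Subgroup Γ} {g : ℕ → Γ}

theorem validQ (hrel : ∀ w ∈ certQ.rels, ev g w = 1) (hsub : ∀ L ∈ certQ.subs, g L ∈ H) :
    ∀ e < 204, certQ.Valid H g e := by
  have h0 : ∀ e < 0, certQ.Valid H g e := fun e he => absurd he (Nat.not_lt_zero e)
  have h1 : ∀ e < 128, certQ.Valid H g e := Cert.chunks_valid hrel hsub _ 0 chkQ0 h0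
  have h2 : ∀ e < 204, certQ.Valid H g e := Cert.chunks_valid hrel hsub _ 128 chkQ1 h1
  exact h2

end CfsgLib.JTwoUniq
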