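import Cfsg.Agent.Lib.JTwoUniq.Pres
import Cfsg.Agent.Lib.JTwoUniq.ValidQ
import Cfsg.Agent.Lib.JTwoUniq.ValidC
import Cfsg.Agent.Lib.JTwoUniq.Data.Model
import Cfsg.Agent.Lib.JTwoUniq.Data.EltCodes
import Cfsg.Agent.Lib.Golay.PackPerm

/-!
The centralizer of an involution of the Hall-Janko group: a presentation, and a faithful representation on the
32 elements of its extraspecial subgroup.
-/

set_option autoImplicit false
set_option maxRecDepth 100000

namespace CfsgLib.JTwoUniq

open Coset Golay

theorem id32 : validL 32 (List.range 32) = true := by decide +kernel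

/-- The coded permutations on 32 points. -/
noncomputable def O32 : Bsgs.Ops (Equiv.Perm (Fin 32)) (Fin 32) := PackPerm.ops 32 (by norm_num) id32

/-- The code of a letter. -/
def letCode (l : ℕ) : ℕ := Data.letC.getD l (PackPerm.pack (List.range 32))

/-- The code of a word. -/
def pev : List ℕ → ℕ
  | [] => PackPerm.pack (List.range 32)
  | a :: w => PackPerm.mulP 32 (letCode a) (pev w)

/-- The generators of the model. -/
noncomputable def mg (i : ℕ) : Equiv.Perm (Fin 32) := O32.val (letCode (2 * i))

theorem let_checks : Data.letC.length = 20 ∧ Data.letC.all O32.ok = true ∧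
    (List.range 10).all (fun i => PackPerm.mulP 32 (letCode (2 * i + 1)) (letCode (2 * i)) == O32.one) = true := by
  refine ⟨?_, ?_, ?_⟩ <;> decide +kernel

theorem pack_checks : PackPerm.pack (PackPerm.toL 32 (PackPerm.pack (List.range 32))) = PackPerm.pack (List.range 32) := by
  decide +kernel

theorem packed_mulP {A B : ℕ} {n : ℕ} (hn : n ≤ 256) (hA : validL n (PackPerm.toL n A) = true)
    (hB : validL n (PackPerm.toL n B) = true) :
    PackPerm.pack (PackPerm.toL n (PackPerm.mulP n A B)) = PackPerm.mulP n A B := by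
  rw [PackPerm.mulP, PackPerm.mulAux_eq, List.length_range, PackPerm.toL_pack hn (by simp) fun a ha => ?_]
  obtain ⟨i, hi, rfl⟩ := List.mem_map.1 ha
  exact PackPerm.getP_lt hA (PackPerm.getP_lt hB (List.mem_range.1 hi))

attribute [local irreducible] PackPerm.mulP PackPerm.pack

theorem pack_range : O32.one = PackPerm.pack (List.range 32) := rfl

theorem mul_eq (a b : ℕ) : O32.mul a b = PackPerm.mulP 32 a b := rfl

theorem letCode_ok (l : ℕ) : O32.ok (letCode l) = true := by
  unfold letCode
  by_cases h : l < Data.letC.length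
  · rw [List.getD_eq_getElem _ _ h]
    exact List.all_eq_true.1 let_checks.2.1 _ (List.getElem_mem h)
  · rw [List.getD_eq_default _ _ (not_lt.1 h)]
    rw [← pack_range]; exact O32.ok_one

theorem lval_mg {l : ℕ} (hl : l < 20) : lval mg l = O32.val (letCode l) := by
  rcases Nat.even_or_odd' l with ⟨k, rfl | rfl⟩
  · rw [lval_even]; rfl
  · rw [lval_odd, inv_eq_iff_mul_eq_one]
    have h := List.all_eq_true.1 let_checks.2.2 k (List.mem_range.2 (by omega))
    rw [beq_iff_eq] at h
    have h' : O32.val (letCode (2 * k + 1)) * O32.val (letCode (2 * k)) = 1 := by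
      rw [← O32.val_mul _ _ (letCode_ok _) (letCode_ok _), mul_eq, h, O32.val_one]
    exact mul_eq_one_comm.1 h'

theorem pev_spec : ∀ {w : List ℕ}, (∀ l ∈ w, l < 20) → O32.ok (pev w) = true ∧ ev mg w = O32.val (pev w)
  | [], _ => by
    rw [pev, ← pack_range]
    exact ⟨O32.ok_one, O32.val_one.symm⟩
  | a :: w, h => by
    obtain ⟨h1, h2⟩ := pev_spec fun l hl => h l (List.mem_cons_of_mem _ hl)
    rw [pev, ← mul_eq]
    refine ⟨O32.ok_mul _ _ (letCode_ok a) h1, ?_⟩
    rw [ev_cons, h2, lval_mg (h a List.mem_cons_self), O32.val_mul _ _ (letCode_ok a) h1]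

theorem pev_packed : ∀ {w : List ℕ}, (∀ l ∈ w, l < 20) → PackPerm.pack (PackPerm.toL 32 (pev w)) = pev w
  | [], _ => pack_checks
  | a :: w, h => by
    have hA : validL 32 (PackPerm.toL 32 (letCode a)) = true := PackPerm.validL_of_okP (letCode_ok a)
    have hB : validL 32 (PackPerm.toL 32 (pev w)) = true :=
      PackPerm.validL_of_okP (pev_spec fun l hl => h l (List.mem_cons_of_mem _ hl)).1
    exact packed_mulP (by norm_num) hA hB

theorem code_eq_of_val {A B : ℕ} (hA : O32.ok A = true) (hB : O32.ok B = true)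
    (pA : PackPerm.pack (PackPerm.toL 32 A) = A) (pB : PackPerm.pack (PackPerm.toL 32 B) = B)
    (h : O32.val A = O32.val B) : A = B := by
  rw [← pA, ← pB]
  congr 1
  have vi := PackPerm.validL_of_okP (n := 32) hA
  have vj := PackPerm.validL_of_okP (n := 32) hB
  refine List.ext_getElem (by rw [(validL_iff.1 vi).1, (validL_iff.1 vj).1]) fun k h1 h2 => ?_
  have hk : k < 32 := by rw [(validL_iff.1 vi).1] at h1; exact h1
  have a := permOf_apply (Equiv.refl (Fin 32)) vi ⟨k, hk⟩
  have b := permOf_apply (Equiv.refl (Fin 32)) vj ⟨k, hk⟩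
  have h' : permOf (Equiv.refl (Fin 32)) (PackPerm.toL 32 A) =
      permOf (Equiv.refl (Fin 32)) (PackPerm.toL 32 B) := h
  rw [h'] at a
  rw [← List.getD_eq_getElem _ 0 h1, ← List.getD_eq_getElem _ 0 h2]
  exact a.symm.trans b

theorem pev_eq_of_val {v w : List ℕ} (hv : ∀ l ∈ v, l < 20) (hw : ∀ l ∈ w, l < 20)
    (h : O32.val (pev v) = O32.val (pev w)) : pev v = pev w :=
  code_eq_of_val (pev_spec hv).1 (pev_spec hw).1 (pev_packed hv) (pev_packed hw) h

/-- The code of a concatenation. -/
theorem pev_app {v w : List ℕ} (hv : ∀ l ∈ v, l < 20) (hw : ∀ l ∈ w, l < 20) :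
    pev (v ++ w) = PackPerm.mulP 32 (pev v) (pev w) := by
  have hvw : ∀ l ∈ v ++ w, l < 20 := fun l hl => (List.mem_append.1 hl).elim (hv l) (hw l)
  refine code_eq_of_val (pev_spec hvw).1 ?_ (pev_packed hvw) (packed_mulP (by norm_num)
    (PackPerm.validL_of_okP (pev_spec hv).1) (PackPerm.validL_of_okP (pev_spec hw).1)) ?_
  · rw [← mul_eq]; exact O32.ok_mul _ _ (pev_spec hv).1 (pev_spec hw).1
  · rw [← (pev_spec hvw).2, ev_append, (pev_spec hv).2, (pev_spec hw).2, ← mul_eq,
      O32.val_mul _ _ (pev_spec hv).1 (pev_spec hw).1]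

/-- The words of the elements of the centralizer. -/
def eltWords : List (List ℕ) := (Data.eltW0 ++ Data.eltW1 ++ Data.eltW2 ++ Data.eltW3).map digits

/-- Strictly increasing. -/
def incB : List ℕ → Bool
  | a :: b :: r => a.blt b && incB (b :: r)
  | _ => true

theorem incB_pairwise : ∀ {l : List ℕ}, incB l = true → l.Pairwise (· < ·)
  | [], _ => List.Pairwise.nil
  | [_], _ => List.pairwise_singleton _ _
  | a :: b :: r, h => by
    simp only [incB, Bool.and_eq_true, Nat.blt_eq] at h
    have ih := incB_pairwise h.2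
    refine List.pairwise_cons.2 ⟨fun x hx => ?_, ih⟩
    rcases List.mem_cons.1 hx with rfl | hx
    · exact h.1
    · exact h.1.trans ((List.pairwise_cons.1 ih).1 x hx)

/-- The codes of the elements of the centralizer, in increasing order. -/
def eltC : List ℕ := Data.eltC0 ++ Data.eltC1 ++ Data.eltC2 ++ Data.eltC3

theorem elt_checks : eltWords.length = 1920 ∧ lettersB 10 eltWords = true ∧ eltWords.map pev = eltC ∧
    incB eltC = true := by
  refine ⟨?_, ?_, ?_, ?_⟩ <;> decide +kernel

theorem pev_mem_eltC {w : List ℕ} (hw : w ∈ eltWords) : pev w ∈ eltC :=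
  elt_checks.2.2.1 ▸ List.mem_map_of_mem hw

theorem rel_checks : lettersB 10 Data.relC = true ∧ lettersB 6 Data.relQ = true ∧
    Data.relC.all (fun w => pev w == O32.one) = true ∧ Data.relQ.all (fun w => Data.relC.contains w) = true ∧
    Data.relC.contains [0, 0] = true := by
  refine ⟨?_, ?_, ?_, ?_, ?_⟩ <;> decide +kernel

theorem derived_checks : lettersB 10 Data.relD = true ∧ Data.relD.all (fun w => pev w == O32.one) = true := by
  refine ⟨?_, ?_⟩ <;> decide +kernel

theorem goal_checks : certQ.goalB Data.liveQ (Data.goalsQ.map digits) 204 = true ∧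
    certC.goalB Data.liveC (Data.goalsC.map digits) 2422 = true ∧ Data.liveQ.length = 16 ∧
    Data.liveC.length = 60 := by
  refine ⟨?_, ?_, ?_, ?_⟩ <;> decide +kernel

theorem lt_twenty {n : ℕ} (hn : n ≤ 10) {rs : List (List ℕ)} (h : lettersB n rs = true) {w : List ℕ}
    (hw : w ∈ rs) : ∀ l ∈ w, l < 20 := fun l hl => by have := lettersB_mem h hw hl; omega

/-- The presented centralizer. -/
abbrev GamC := Pres 10 Data.relC

/-- The representation of the presented centralizer. -/
noncomputable def psi : GamC →* Equiv.Perm (Fin 32) :=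
  presHom mg (fun w hw => by
    obtain ⟨-, h⟩ := pev_spec (lt_twenty le_rfl rel_checks.1 hw)
    rw [h, beq_iff_eq.1 (List.all_eq_true.1 rel_checks.2.2.1 w hw)]
    exact O32.val_one) rel_checks.1

theorem psi_ev {w : List ℕ} (hw : ∀ l ∈ w, l < 20) : psi (ev (pg 10 Data.relC) w) = O32.val (pev w) :=
  (presHom_ev _ _ _ fun l hl => by have := hw l hl; omega).trans (pev_spec hw).2

theorem gamC_card_le : Finite GamC ∧ Nat.card GamC ≤ 1920 := by
  classical
  set g := pg 10 Data.relC with hg
  let D : Subgroup GamC := Subgroup.closure (g '' {i | i < 6})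
  have hmem : ∀ i, i < 6 → g i ∈ D := fun i hi => Subgroup.subset_closure ⟨i, hi, rfl⟩
  let gd : ℕ → ↥D := fun i => if h : i < 6 then ⟨g i, hmem i h⟩ else 1
  have hgd : ∀ i, i < 6 → (gd i : GamC) = g i := fun i hi => by simp [gd, hi]
  have hrelQ : ∀ w ∈ certQ.rels, ev gd w = 1 := by
    intro w hw
    refine Subtype.ext ?_
    have := map_ev D.subtype gd w
    rw [Subgroup.coe_subtype] at this
    rw [this, ev_congr (g' := g) fun l hl => hgd _ (lettersB_mem rel_checks.2.1 hw hl)]
    exact ev_pg (by simpa using List.all_eq_true.1 rel_checks.2.2.2.1 w hw)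
  have hz2 : g 0 * g 0 = 1 := by
    have := ev_pg (n := 10) (rs := Data.relC) (w := [0, 0]) (by simpa using rel_checks.2.2.2.2)
    simpa [ev, lval] using this
  have hsq : gd 0 ^ 2 = 1 := Subtype.ext (by rw [pow_two, Subgroup.coe_mul, hgd 0 (by norm_num), hz2]; rfl)
  have hzf : IsOfFinOrder (gd 0) := isOfFinOrder_iff_pow_eq_one.2 ⟨2, two_pos, hsq⟩
  have hzc : Nat.card (Subgroup.zpowers (gd 0)) ≤ 2 := by
    rw [Nat.card_zpowers]
    exact orderOf_le_of_pow_eq_one two_pos hsq
  have htop : Subgroup.closure (gd '' {i | i < certQ.ngen}) = ⊤ := by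
    apply Subgroup.map_injective D.subtype_injective
    rw [MonoidHom.map_closure, ← MonoidHom.range_eq_map, Subgroup.range_subtype, ← Set.image_comp]
    exact congrArg Subgroup.closure (Set.image_congr fun i hi => hgd i hi)
  obtain ⟨hfinD, hD⟩ := Cert.card_le hzf.finite_zpowers Data.liveQ _ _ goal_checks.1
    (validQ (H := Subgroup.zpowers (gd 0)) hrelQ fun L hL => by
      simp only [certQ, List.mem_singleton] at hL
      exact hL ▸ Subgroup.mem_zpowers _) htop
  have hDf : (D : Set GamC).Finite := Set.finite_coe_iff.1 hfinD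
  obtain ⟨hfin, hC⟩ := Cert.card_le hDf Data.liveC _ _ goal_checks.2.1
    (validC (H := D) (g := g) (fun w hw => ev_pg hw) fun L hL => hmem L (by
      simp only [certC, List.mem_cons, List.not_mem_nil, or_false] at hL
      omega)) closure_pg
  refine ⟨hfin, hC.trans ?_⟩
  rw [goal_checks.2.2.1] at hD
  rw [goal_checks.2.2.2]
  omega

/-- The element of a number. -/
noncomputable def eltOf (i : Fin 1920) : GamC := ev (pg 10 Data.relC) (eltWords.getD i [])

theorem psi_eltOf_injective : Function.Injective fun i => psi (eltOf i) := by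
  intro i j h
  have hi : (i : ℕ) < eltWords.length := by rw [elt_checks.1]; exact i.2
  have hj : (j : ℕ) < eltWords.length := by rw [elt_checks.1]; exact j.2
  have li := lt_twenty le_rfl elt_checks.2.1 (List.getElem_mem hi)
  have lj := lt_twenty le_rfl elt_checks.2.1 (List.getElem_mem hj)
  simp only [eltOf, List.getD_eq_getElem _ _ hi, List.getD_eq_getElem _ _ hj, psi_ev li, psi_ev lj] at h
  have e : pev eltWords[(i : ℕ)] = pev eltWords[(j : ℕ)] := pev_eq_of_val li lj h
  have hnd := elt_checks.2.2.1 ▸ (incB_pairwise elt_checks.2.2.2).nodup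
  exact Fin.ext (hnd.getElem_inj_iff (hi := by simpa using hi) (hj := by simpa using hj) |>.1 (by simpa using e))

theorem gamC_spec : Nat.card GamC = 1920 ∧ Function.Bijective eltOf ∧ Function.Injective psi := by
  obtain ⟨hfin, hle⟩ := gamC_card_le
  have hinj : Function.Injective eltOf := fun i j h => psi_eltOf_injective (congrArg psi h)
  have hge := Nat.card_le_card_of_injective eltOf hinj
  rw [Nat.card_fin] at hge
  have hcard : Nat.card GamC = 1920 := le_antisymm hle hge
  have hbij : Function.Bijective eltOf :=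
    (Nat.bijective_iff_injective_and_card eltOf).2 ⟨hinj, by rw [Nat.card_fin, hcard]⟩
  refine ⟨hcard, hbij, fun a b h => ?_⟩
  obtain ⟨i, rfl⟩ := hbij.2 a
  obtain ⟨j, rfl⟩ := hbij.2 b
  rw [psi_eltOf_injective h]

section Transfer

variable {G : Type*} [Group G] {f : ℕ → G} (hf : ∀ w ∈ Data.relC, ev f w = 1)
include hf

theorem transfer {v w : List ℕ} (hv : ∀ l ∈ v, l < 20) (hw : ∀ l ∈ w, l < 20) (h : pev v = pev w) :
    ev f v = ev f w := by
  have e : ev (pg 10 Data.relC) v = ev (pg 10 Data.relC) w :=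
    gamC_spec.2.2 (by rw [psi_ev hv, psi_ev hw, h])
  rw [← presHom_ev f hf rel_checks.1 (w := v) fun l hl => by have := hv l hl; omega,
    ← presHom_ev f hf rel_checks.1 (w := w) fun l hl => by have := hw l hl; omega, e]

theorem derived {w : List ℕ} (hw : w ∈ Data.relD) : ev f w = 1 := by
  rw [← ev_nil (g := f)]
  refine transfer hf (lt_twenty le_rfl derived_checks.1 hw) (by simp) ?_
  rw [beq_iff_eq.1 (List.all_eq_true.1 derived_checks.2 w hw)]
  rfl

theorem exists_word {x : G} (hx : x ∈ Subgroup.closure (f '' {i | i < 10})) :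
    ∃ w ∈ eltWords, ev f w = x := by
  rw [← presHom_range f hf rel_checks.1] at hx
  obtain ⟨a, rfl⟩ := hx
  obtain ⟨i, rfl⟩ := gamC_spec.2.1.2 a
  have hi : (i : ℕ) < eltWords.length := by rw [elt_checks.1]; exact i.2
  refine ⟨eltWords[(i : ℕ)], List.getElem_mem hi, ?_⟩
  rw [eltOf, List.getD_eq_getElem _ _ hi,
    presHom_ev f hf rel_checks.1 fun l hl => lettersB_mem elt_checks.2.1 (List.getElem_mem hi) hl]

theorem card_closure_le : (Subgroup.closure (f '' {i | i < 10}) : Set G).Finite ∧
    Nat.card (Subgroup.closure (f '' {i | i < 10})) ≤ 1920 := by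
  have := gamC_card_le.1
  rw [← presHom_range f hf rel_checks.1]
  exact ⟨Set.finite_range _, (Nat.card_le_card_of_surjective _ (MonoidHom.rangeRestrict_surjective _)).trans
    gamC_spec.1.le⟩

/-- When the image has full order, equal values have equal codes. -/
theorem reflect (hcard : Nat.card (Subgroup.closure (f '' {i | i < 10})) = 1920) {v w : List ℕ}
    (hv : ∀ l ∈ v, l < 20) (hw : ∀ l ∈ w, l < 20) (h : ev f v = ev f w) :
    pev v = pev w := by
  refine pev_eq_of_val hv hw ?_
  have := gamC_card_le.1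
  have hinj : Function.Injective (presHom f hf rel_checks.1).rangeRestrict :=
    ((Nat.bijective_iff_surjective_and_card _).2 ⟨MonoidHom.rangeRestrict_surjective _, by
      rw [gamC_spec.1, presHom_range, hcard]⟩).1
  have e : ev (pg 10 Data.relC) v = ev (pg 10 Data.relC) w := hinj (Subtype.ext (by
    show presHom f hf rel_checks.1 _ = presHom f hf rel_checks.1 _
    rw [presHom_ev _ _ _ fun l hl => by have := hv l hl; omega,
      presHom_ev _ _ _ fun l hl => by have := hw l hl; omega, h]))
  rw [← psi_ev hv, ← psi_ev hw, e]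

end Transfer

end CfsgLib.JTwoUniq
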