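import Cfsg.Agent.Lib.JTwoUniq.Cert

/-!
Presented groups on finitely many numbered generators.
-/

set_option autoImplicit false

namespace CfsgLib.JTwoUniq

open Coset

/-- Extending a family on `Fin n` by the identity. -/
def gensOf {α : Type*} [One α] (n : ℕ) (f : Fin n → α) (i : ℕ) : α := if h : i < n then f ⟨i, h⟩ else 1

/-- The relations given by words. -/
def presRels (n : ℕ) (rs : List (List ℕ)) : Set (FreeGroup (Fin n)) :=
  {r | ∃ w ∈ rs, ev (gensOf n FreeGroup.of) w = r}

/-- The group presented by words. -/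
abbrev Pres (n : ℕ) (rs : List (List ℕ)) := PresentedGroup (presRels n rs)

/-- The generators of a presented group. -/
def pg (n : ℕ) (rs : List (List ℕ)) : ℕ → Pres n rs := gensOf n PresentedGroup.of

variable {Γ Δ : Type*} [Group Γ] [Group Δ]

theorem map_ev (f : Γ →* Δ) (g : ℕ → Γ) : ∀ w : List ℕ, f (ev g w) = ev (fun i => f (g i)) w
  | [] => map_one f
  | a :: w => by
    rw [ev_cons, ev_cons, map_mul, map_ev f g w]
    congr 1
    unfold lval
    split_ifs
    · rfl
    · exact map_inv f _

theorem ev_congr {g g' : ℕ → Γ} {w : List ℕ} (h : ∀ l ∈ w, g (l / 2) = g' (l / 2)) : ev g w = ev g' w := by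
  unfold ev
  congr 1
  refine List.map_congr_left fun l hl => ?_
  simp only [lval, h l hl]

theorem ev_mem {g : ℕ → Γ} {H : Subgroup Γ} : ∀ {w : List ℕ}, (∀ l ∈ w, g (l / 2) ∈ H) → ev g w ∈ H
  | [], _ => H.one_mem
  | a :: w, h => by
    rw [ev_cons]
    refine H.mul_mem ?_ (ev_mem fun l hl => h l (List.mem_cons_of_mem _ hl))
    unfold lval
    split_ifs
    · exact h a List.mem_cons_self
    · exact H.inv_mem (h a List.mem_cons_self)

theorem ev_singleton (g : ℕ → Γ) (i : ℕ) : ev g [2 * i] = g i := by simp [ev, lval_even]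

/-- All letters of a word are below `2 * n`. -/
def lettersB (n : ℕ) (rs : List (List ℕ)) : Bool := rs.all fun w => w.all fun l => l.blt (2 * n)

theorem lettersB_mem {n : ℕ} {rs : List (List ℕ)} (h : lettersB n rs = true) {w : List ℕ} (hw : w ∈ rs) {l : ℕ}
    (hl : l ∈ w) : l / 2 < n := by
  simp only [lettersB, List.all_eq_true, Nat.blt_eq] at h
  have := h w hw l hl
  omega

variable {n : ℕ} {rs : List (List ℕ)}

theorem ev_pg {w : List ℕ} (hw : w ∈ rs) : ev (pg n rs) w = 1 := by
  have h : PresentedGroup.mk (presRels n rs) (ev (gensOf n FreeGroup.of) w) = 1 :=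
    PresentedGroup.one_of_mem ⟨w, hw, rfl⟩
  rw [map_ev] at h
  refine Eq.trans (ev_congr fun l _ => ?_) h
  simp only [pg, gensOf]
  split_ifs with hl
  · rfl
  · exact (map_one (PresentedGroup.mk (presRels n rs))).symm

theorem gensOf_image (f : Fin n → Γ) : gensOf n f '' {i | i < n} = Set.range f := by
  ext x
  constructor
  · rintro ⟨i, hi, rfl⟩
    exact ⟨⟨i, hi⟩, by simp [gensOf, show i < n from hi]⟩
  · rintro ⟨i, rfl⟩
    exact ⟨i, i.2, by simp [gensOf]⟩

theorem closure_pg : Subgroup.closure (pg n rs '' {i | i < n}) = ⊤ := by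
  rw [pg, gensOf_image, PresentedGroup.closure_range_of]

/-- The map out of a presented group. -/
def presHom (g : ℕ → Γ) (h : ∀ w ∈ rs, ev g w = 1) (hl : lettersB n rs = true) : Pres n rs →* Γ :=
  PresentedGroup.toGroup (f := fun i : Fin n => g i) (by
    rintro _ ⟨w, hw, rfl⟩
    rw [map_ev]
    refine Eq.trans (ev_congr fun l hll => ?_) (h w hw)
    simp [gensOf, lettersB_mem hl hw hll])

theorem presHom_pg (g : ℕ → Γ) (h : ∀ w ∈ rs, ev g w = 1) (hl : lettersB n rs = true) {i : ℕ} (hi : i < n) :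
    presHom g h hl (pg n rs i) = g i := by
  rw [pg, gensOf, dif_pos hi, presHom, PresentedGroup.toGroup.of]

theorem presHom_ev (g : ℕ → Γ) (h : ∀ w ∈ rs, ev g w = 1) (hl : lettersB n rs = true) {w : List ℕ}
    (hw : ∀ l ∈ w, l / 2 < n) : presHom g h hl (ev (pg n rs) w) = ev g w := by
  rw [map_ev]
  exact ev_congr fun l hll => presHom_pg g h hl (hw l hll)

theorem presHom_range (g : ℕ → Γ) (h : ∀ w ∈ rs, ev g w = 1) (hl : lettersB n rs = true) :
    (presHom g h hl).range = Subgroup.closure (g '' {i | i < n}) := by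
  rw [MonoidHom.range_eq_map, ← closure_pg, MonoidHom.map_closure, ← Set.image_comp]
  congr 1
  exact Set.image_congr fun i hi => presHom_pg g h hl hi

end CfsgLib.JTwoUniq
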