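import Cfsg.Agent.Lib.JTwoUniq.Checks.J0
import Cfsg.Agent.Lib.JTwoUniq.Checks.J1
import Cfsg.Agent.Lib.JTwoUniq.Checks.J2
import Cfsg.Agent.Lib.JTwoUniq.Checks.J3
import Cfsg.Agent.Lib.JTwoUniq.Checks.J4
import Cfsg.Agent.Lib.JTwoUniq.Checks.J5
import Cfsg.Agent.Lib.JTwoUniq.Checks.J6

/-!
All edges of certificate J are valid.
-/

set_option autoImplicit false
set_option maxRecDepth 100000

namespace CfsgLib.JTwoUniq

open Coset

variable {Γ : Type*} [Group Γ] {H : Subgroup Γ} {g : ℕ → Γ}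

theorem validJ (hrel : ∀ w ∈ certJ.rels, ev g w = 1) (hsub : ∀ L ∈ certJ.subs, g L ∈ H) :
    ∀ e < 12670, certJ.Valid H g e := by
  have h0 : ∀ e < 0, certJ.Valid H g e := fun e he => absurd he (Nat.not_lt_zero e)
  have h1 : ∀ e < 128, certJ.Valid H g e := Cert.chunks_valid hrel hsub _ 0 chkJ0 h0
  have h2 : ∀ e < 256, certJ.Valid H g e := Cert.chunks_valid hrel hsub _ 128 chkJ1 h1
  have h3 : ∀ e < 384, certJ.Valid H g e := Cert.chunks_valid hrel hsub _ 256 chkJ2 h2
  have h4 : ∀ e < 512, certJ.Valid H g e := Cert.chunks_valid hrel hsub _ 384 chkJ3 h3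
  have h5 : ∀ e < 640, certJ.Valid H g e := Cert.chunks_valid hrel hsub _ 512 chkJ4 h4
  have h6 : ∀ e < 768, certJ.Valid H g e := Cert.chunks_valid hrel hsub _ 640 chkJ5 h5
  have h7 : ∀ e < 896, certJ.Valid H g e := Cert.chunks_valid hrel hsub _ 768 chkJ6 h6
  have h8 : ∀ e < 1024, certJ.Valid H g e := Cert.chunks_valid hrel hsub _ 896 chkJ7 h7
  have h9 : ∀ e < 1152, certJ.Valid H g e := Cert.chunks_valid hrel hsub _ 1024 chkJ8 h8
  have h10 : ∀ e < 1280, certJ.Valid H g e := Cert.chunks_valid hrel hsub _ 1152 chkJ9 h9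
  have h11 : ∀ e < 1408, certJ.Valid H g e := Cert.chunks_valid hrel hsub _ 1280 chkJ10 h10
  have h12 : ∀ e < 1536, certJ.Valid H g e := Cert.chunks_valid hrel hsub _ 1408 chkJ11 h11
  have h13 : ∀ e < 1664, certJ.Valid H g e := Cert.chunks_valid hrel hsub _ 1536 chkJ12 h12
  have h14 : ∀ e < 1792, certJ.Valid H g e := Cert.chunks_valid hrel hsub _ 1664 chkJ13 h13
  have h15 : ∀ e < 1920, certJ.Valid H g e := Cert.chunks_valid hrel hsub _ 1792 chkJ14 h14
  have h16 : ∀ e < 2048, certJ.Valid H g e := Cert.chunks_valid hrel hsub _ 1920 chkJ15 h15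
  have h17 : ∀ e < 2176, certJ.Valid H g e := Cert.chunks_valid hrel hsub _ 2048 chkJ16 h16
  have h18 : ∀ e < 2304, certJ.Valid H g e := Cert.chunks_valid hrel hsub _ 2176 chkJ17 h17
  have h19 : ∀ e < 2432, certJ.Valid H g e := Cert.chunks_valid hrel hsub _ 2304 chkJ18 h18
  have h20 : ∀ e < 2560, certJ.Valid H g e := Cert.chunks_valid hrel hsub _ 2432 chkJ19 h19
  have h21 : ∀ e < 2688, certJ.Valid H g e := Cert.chunks_valid hrel hsub _ 2560 chkJ20 h20
  have h22 : ∀ e < 2816, certJ.Valid H g e := Cert.chunks_valid hrel hsub _ 2688 chkJ21 h21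
  have h23 : ∀ e < 2944, certJ.Valid H g e := Cert.chunks_valid hrel hsub _ 2816 chkJ22 h22
  have h24 : ∀ e < 3072, certJ.Valid H g e := Cert.chunks_valid hrel hsub _ 2944 chkJ23 h23
  have h25 : ∀ e < 3200, certJ.Valid H g e := Cert.chunks_valid hrel hsub _ 3072 chkJ24 h24
  have h26 : ∀ e < 3328, certJ.Valid H g e := Cert.chunks_valid hrel hsub _ 3200 chkJ25 h25
  have h27 : ∀ e < 3456, certJ.Valid H g e := Cert.chunks_valid hrel hsub _ 3328 chkJ26 h26
  have h28 : ∀ e < 3584, certJ.Valid H g e := Cert.chunks_valid hrel hsub _ 3456 chkJ27 h27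
  have h29 : ∀ e < 3712, certJ.Valid H g e := Cert.chunks_valid hrel hsub _ 3584 chkJ28 h28
  have h30 : ∀ e < 3840, certJ.Valid H g e := Cert.chunks_valid hrel hsub _ 3712 chkJ29 h29
  have h31 : ∀ e < 3968, certJ.Valid H g e := Cert.chunks_valid hrel hsub _ 3840 chkJ30 h30
  have h32 : ∀ e < 4096, certJ.Valid H g e := Cert.chunks_valid hrel hsub _ 3968 chkJ31 h31
  have h33 : ∀ e < 4224, certJ.Valid H g e := Cert.chunks_valid hrel hsub _ 4096 chkJ32 h32
  have h34 : ∀ e < 4352, certJ.Valid H g e := Cert.chunks_valid hrel hsub _ 4224 chkJ33 h33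
  have h35 : ∀ e < 4480, certJ.Valid H g e := Cert.chunks_valid hrel hsub _ 4352 chkJ34 h34
  have h36 : ∀ e < 4608, certJ.Valid H g e := Cert.chunks_valid hrel hsub _ 4480 chkJ35 h35
  have h37 : ∀ e < 4736, certJ.Valid H g e := Cert.chunks_valid hrel hsub _ 4608 chkJ36 h36
  have h38 : ∀ e < 4864, certJ.Valid H g e := Cert.chunks_valid hrel hsub _ 4736 chkJ37 h37
  have h39 : ∀ e < 4992, certJ.Valid H g e := Cert.chunks_valid hrel hsub _ 4864 chkJ38 h38
  have h40 : ∀ e < 5120, certJ.Valid H g e := Cert.chunks_valid hrel hsub _ 4992 chkJ39 h39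
  have h41 : ∀ e < 5248, certJ.Valid H g e := Cert.chunks_valid hrel hsub _ 5120 chkJ40 h40
  have h42 : ∀ e < 5376, certJ.Valid H g e := Cert.chunks_valid hrel hsub _ 5248 chkJ41 h41
  have h43 : ∀ e < 5504, certJ.Valid H g e := Cert.chunks_valid hrel hsub _ 5376 chkJ42 h42
  have h44 : ∀ e < 5632, certJ.Valid H g e := Cert.chunks_valid hrel hsub _ 5504 chkJ43 h43
  have h45 : ∀ e < 5760, certJ.Valid H g e := Cert.chunks_valid hrel hsub _ 5632 chkJ44 h44
  have h46 : ∀ e < 5888, certJ.Valid H g e := Cert.chunks_valid hrel hsub _ 5760 chkJ45 h45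
  have h47 : ∀ e < 6016, certJ.Valid H g e := Cert.chunks_valid hrel hsub _ 5888 chkJ46 h46
  have h48 : ∀ e < 6144, certJ.Valid H g e := Cert.chunks_valid hrel hsub _ 6016 chkJ47 h47
  have h49 : ∀ e < 6272, certJ.Valid H g e := Cert.chunks_valid hrel hsub _ 6144 chkJ48 h48
  have h50 : ∀ e < 6400, certJ.Valid H g e := Cert.chunks_valid hrel hsub _ 6272 chkJ49 h49
  have h51 : ∀ e < 6528, certJ.Valid H g e := Cert.chunks_valid hrel hsub _ 6400 chkJ50 h50
  have h52 : ∀ e < 6656, certJ.Valid H g e := Cert.chunks_valid hrel hsub _ 6528 chkJ51 h51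
  have h53 : ∀ e < 6784, certJ.Valid H g e := Cert.chunks_valid hrel hsub _ 6656 chkJ52 h52
  have h54 : ∀ e < 6912, certJ.Valid H g e := Cert.chunks_valid hrel hsub _ 6784 chkJ53 h53
  have h55 : ∀ e < 7040, certJ.Valid H g e := Cert.chunks_valid hrel hsub _ 6912 chkJ54 h54
  have h56 : ∀ e < 7168, certJ.Valid H g e := Cert.chunks_valid hrel hsub _ 7040 chkJ55 h55
  have h57 : ∀ e < 7296, certJ.Valid H g e := Cert.chunks_valid hrel hsub _ 7168 chkJ56 h56
  have h58 : ∀ e < 7424, certJ.Valid H g e := Cert.chunks_valid hrel hsub _ 7296 chkJ57 h57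
  have h59 : ∀ e < 7552, certJ.Valid H g e := Cert.chunks_valid hrel hsub _ 7424 chkJ58 h58
  have h60 : ∀ e < 7680, certJ.Valid H g e := Cert.chunks_valid hrel hsub _ 7552 chkJ59 h59
  have h61 : ∀ e < 7808, certJ.Valid H g e := Cert.chunks_valid hrel hsub _ 7680 chkJ60 h60
  have h62 : ∀ e < 7936, certJ.Valid H g e := Cert.chunks_valid hrel hsub _ 7808 chkJ61 h61
  have h63 : ∀ e < 8064, certJ.Valid H g e := Cert.chunks_valid hrel hsub _ 7936 chkJ62 h62
  have h64 : ∀ e < 8192, certJ.Valid H g e := Cert.chunks_valid hrel hsub _ 8064 chkJ63 h63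
  have h65 : ∀ e < 8320, certJ.Valid H g e := Cert.chunks_valid hrel hsub _ 8192 chkJ64 h64
  have h66 : ∀ e < 8448, certJ.Valid H g e := Cert.chunks_valid hrel hsub _ 8320 chkJ65 h65
  have h67 : ∀ e < 8576, certJ.Valid H g e := Cert.chunks_valid hrel hsub _ 8448 chkJ66 h66
  have h68 : ∀ e < 8704, certJ.Valid H g e := Cert.chunks_valid hrel hsub _ 8576 chkJ67 h67
  have h69 : ∀ e < 8832, certJ.Valid H g e := Cert.chunks_valid hrel hsub _ 8704 chkJ68 h68
  have h70 : ∀ e < 8960, certJ.Valid H g e := Cert.chunks_valid hrel hsub _ 8832 chkJ69 h69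
  have h71 : ∀ e < 9088, certJ.Valid H g e := Cert.chunks_valid hrel hsub _ 8960 chkJ70 h70
  have h72 : ∀ e < 9216, certJ.Valid H g e := Cert.chunks_valid hrel hsub _ 9088 chkJ71 h71
  have h73 : ∀ e < 9344, certJ.Valid H g e := Cert.chunks_valid hrel hsub _ 9216 chkJ72 h72
  have h74 : ∀ e < 9472, certJ.Valid H g e := Cert.chunks_valid hrel hsub _ 9344 chkJ73 h73
  have h75 : ∀ e < 9600, certJ.Valid H g e := Cert.chunks_valid hrel hsub _ 9472 chkJ74 h74
  have h76 : ∀ e < 9728, certJ.Valid H g e := Cert.chunks_valid hrel hsub _ 9600 chkJ75 h75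
  have h77 : ∀ e < 9856, certJ.Valid H g e := Cert.chunks_valid hrel hsub _ 9728 chkJ76 h76
  have h78 : ∀ e < 9984, certJ.Valid H g e := Cert.chunks_valid hrel hsub _ 9856 chkJ77 h77
  have h79 : ∀ e < 10112, certJ.Valid H g e := Cert.chunks_valid hrel hsub _ 9984 chkJ78 h78
  have h80 : ∀ e < 10240, certJ.Valid H g e := Cert.chunks_valid hrel hsub _ 10112 chkJ79 h79
  have h81 : ∀ e < 10368, certJ.Valid H g e := Cert.chunks_valid hrel hsub _ 10240 chkJ80 h80
  have h82 : ∀ e < 10496, certJ.Valid H g e := Cert.chunks_valid hrel hsub _ 10368 chkJ81 h81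
  have h83 : ∀ e < 10624, certJ.Valid H g e := Cert.chunks_valid hrel hsub _ 10496 chkJ82 h82
  have h84 : ∀ e < 10752, certJ.Valid H g e := Cert.chunks_valid hrel hsub _ 10624 chkJ83 h83
  have h85 : ∀ e < 10880, certJ.Valid H g e := Cert.chunks_valid hrel hsub _ 10752 chkJ84 h84
  have h86 : ∀ e < 11008, certJ.Valid H g e := Cert.chunks_valid hrel hsub _ 10880 chkJ85 h85
  have h87 : ∀ e < 11136, certJ.Valid H g e := Cert.chunks_valid hrel hsub _ 11008 chkJ86 h86
  have h88 : ∀ e < 11264, certJ.Valid H g e := Cert.chunks_valid hrel hsub _ 11136 chkJ87 h87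
  have h89 : ∀ e < 11392, certJ.Valid H g e := Cert.chunks_valid hrel hsub _ 11264 chkJ88 h88
  have h90 : ∀ e < 11520, certJ.Valid H g e := Cert.chunks_valid hrel hsub _ 11392 chkJ89 h89
  have h91 : ∀ e < 11648, certJ.Valid H g e := Cert.chunks_valid hrel hsub _ 11520 chkJ90 h90
  have h92 : ∀ e < 11776, certJ.Valid H g e := Cert.chunks_valid hrel hsub _ 11648 chkJ91 h91
  have h93 : ∀ e < 11904, certJ.Valid H g e := Cert.chunks_valid hrel hsub _ 11776 chkJ92 h92
  have h94 : ∀ e < 12032, certJ.Valid H g e := Cert.chunks_valid hrel hsub _ 11904 chkJ93 h93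
  have h95 : ∀ e < 12160, certJ.Valid H g e := Cert.chunks_valid hrel hsub _ 12032 chkJ94 h94
  have h96 : ∀ e < 12288, certJ.Valid H g e := Cert.chunks_valid hrel hsub _ 12160 chkJ95 h95
  have h97 : ∀ e < 12416, certJ.Valid H g e := Cert.chunks_valid hrel hsub _ 12288 chkJ96 h96
  have h98 : ∀ e < 12544, certJ.Valid H g e := Cert.chunks_valid hrel hsub _ 12416 chkJ97 h97
  have h99 : ∀ e < 12670, certJ.Valid H g e := Cert.chunks_valid hrel hsub _ 12544 chkJ98 h98
  exact h99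

end CfsgLib.JTwoUniq
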