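import Cfsg.Agent.Lib.JTwoUniq.Checks.K0
import Cfsg.Agent.Lib.JTwoUniq.Checks.K1

/-!
All edges of certificate K are valid.
-/

set_option autoImplicit false
set_option maxRecDepth 100000

namespace CfsgLib.JTwoUniq

open Coset

variable {Γ : Type*} [Group Γ] {H : Subgroup Γ} {g : ℕ → Γ}

theorem validK (hrel : ∀ w ∈ certK.rels, ev g w = 1) (hsub : ∀ L ∈ certK.subs, g L ∈ H) :
    ∀ e < 2371, certK.Valid H g e := by
  have h0 : ∀ e < 0, certK.Valid H g e := fun e he => absurd he (Nat.not_lt_zero e)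
  have h1 : ∀ e < 128, certK.Valid H g e := Cert.chunks_valid hrel hsub _ 0 chkK0 h0
  have h2 : ∀ e < 256, certK.Valid H g e := Cert.chunks_valid hrel hsub _ 128 chkK1 h1
  have h3 : ∀ e < 384, certK.Valid H g e := Cert.chunks_valid hrel hsub _ 256 chkK2 h2
  have h4 : ∀ e < 512, certK.Valid H g e := Cert.chunks_valid hrel hsub _ 384 chkK3 h3
  have h5 : ∀ e < 640, certK.Valid H g e := Cert.chunks_valid hrel hsub _ 512 chkK4 h4
  have h6 : ∀ e < 768, certK.Valid H g e := Cert.chunks_valid hrel hsub _ 640 chkK5 h5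
  have h7 : ∀ e < 896, certK.Valid H g e := Cert.chunks_valid hrel hsub _ 768 chkK6 h6
  have h8 : ∀ e < 1024, certK.Valid H g e := Cert.chunks_valid hrel hsub _ 896 chkK7 h7
  have h9 : ∀ e < 1152, certK.Valid H g e := Cert.chunks_valid hrel hsub _ 1024 chkK8 h8
  have h10 : ∀ e < 1280, certK.Valid H g e := Cert.chunks_valid hrel hsub _ 1152 chkK9 h9
  have h11 : ∀ e < 1408, certK.Valid H g e := Cert.chunks_valid hrel hsub _ 1280 chkK10 h10
  have h12 : ∀ e < 1536, certK.Valid H g e := Cert.chunks_valid hrel hsub _ 1408 chkK11 h11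
  have h13 : ∀ e < 1664, certK.Valid H g e := Cert.chunks_valid hrel hsub _ 1536 chkK12 h12
  have h14 : ∀ e < 1792, certK.Valid H g e := Cert.chunks_valid hrel hsub _ 1664 chkK13 h13
  have h15 : ∀ e < 1920, certK.Valid H g e := Cert.chunks_valid hrel hsub _ 1792 chkK14 h14
  have h16 : ∀ e < 2048, certK.Valid H g e := Cert.chunks_valid hrel hsub _ 1920 chkK15 h15
  have h17 : ∀ e < 2176, certK.Valid H g e := Cert.chunks_valid hrel hsub _ 2048 chkK16 h16
  have h18 : ∀ e < 2304, certK.Valid H g e := Cert.chunks_valid hrel hsub _ 2176 chkK17 h17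
  have h19 : ∀ e < 2371, certK.Valid H g e := Cert.chunks_valid hrel hsub _ 2304 chkK18 h18
  exact h19

end CfsgLib.JTwoUniq
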