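import Cfsg.Agent.Lib.JTwoUniq.Model
import Cfsg.Agent.Lib.JTwoUniq.ValidJ
import Cfsg.Agent.Lib.JTwoUniq.ValidK
import Cfsg.Agent.Lib.JTwoUniq.Data.Witness
import Cfsg.Agent.Lib.Ico.J2

/-!
A group of order 604800 with generators satisfying the relations is the Hall-Janko group; with the other last
relation the twelve generators lie in the centralizer.
-/

set_option autoImplicit false
set_option maxRecDepth 100000

namespace CfsgLib.JTwoUniq

open Coset Golay

/-- The list of class involutions of a letter. -/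
def letWit (l : ℕ) : List ℕ :=
  if l % 2 == 0 then Data.wit.getD (l / 2) [] else (Data.wit.getD (l / 2) []).reverse

/-- The product of a list of class involutions, as a code. -/
noncomputable def iev : List ℕ → ℕ
  | [] => J2.O.one
  | a :: w => J2.O.mul (Ico.invCode a) (iev w)

theorem wit_checks : Data.wit.all (fun w => w.all fun a => a.blt 315) = true ∧
    lettersB 12 Data.genW = true ∧
    (certJ.rels).all (fun w => iev (w.flatMap letWit) == J2.O.one) = true ∧
    (List.range 4).all (fun k => iev ((Data.genW.getD k []).flatMap letWit) ==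
      J2.O.mul (Ico.invCode (Ico.genLine k)) J2.O.one) = true ∧
    lettersB 12 certJ.rels = true ∧ lettersB 12 certK.rels = true ∧ lettersB 10 Data.relC = true := by
  refine ⟨?_, ?_, ?_, ?_, ?_, ?_, ?_⟩ <;> decide +kernel

theorem goal_checksJ : certJ.goalB Data.liveJ (Data.goalsJ.map digits) 12670 = true ∧ Data.liveJ.length = 315 ∧
    certK.src 2370 = 0 ∧ certK.dst 2370 = 0 ∧ certK.let' 2370 = 10 := by
  refine ⟨?_, ?_, ?_, ?_, ?_⟩ <;> decide +kernel

/-- The element of the class of a number. -/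
noncomputable def invN (a : ℕ) : ↥J2.grpJ2 := if h : a < 315 then Ico.invEl ⟨a, h⟩ else 1

theorem invN_sq (a : ℕ) : invN a * invN a = 1 := by
  unfold invN
  split_ifs
  · exact Subtype.ext (Ico.invPerm_sq _)
  · exact one_mul 1

/-- The generators in the group on 100 points. -/
noncomputable def wg (i : ℕ) : ↥J2.grpJ2 := ((Data.wit.getD i []).map invN).prod

theorem lval_wg (l : ℕ) : lval wg l = ((letWit l).map invN).prod := by
  rcases Nat.even_or_odd' l with ⟨k, rfl | rfl⟩
  · rw [lval_even, letWit, if_pos (by simp), show 2 * k / 2 = k by omega, wg]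
  · rw [lval_odd, letWit, if_neg (by simp), show (2 * k + 1) / 2 = k by omega, wg]
    induction Data.wit.getD k [] with
    | nil => simp
    | cons a w ih =>
      rw [List.map_cons, List.prod_cons, mul_inv_rev, ih, List.reverse_cons, List.map_append, List.prod_append,
        inv_eq_of_mul_eq_one_right (invN_sq a)]
      simp

theorem ev_wg : ∀ w : List ℕ, ev wg w = ((w.flatMap letWit).map invN).prod
  | [] => rfl
  | a :: w => by rw [ev_cons, lval_wg, ev_wg w, List.flatMap_cons, List.map_append, List.prod_append]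

theorem iev_spec : ∀ {w : List ℕ}, (∀ a ∈ w, a < 315) →
    J2.O.ok (iev w) = true ∧ ((w.map invN).prod : Equiv.Perm (Fin 100)) = J2.O.val (iev w)
  | [], _ => ⟨J2.O.ok_one, J2.O.val_one.symm⟩
  | a :: w, h => by
    obtain ⟨h1, h2⟩ := iev_spec fun l hl => h l (List.mem_cons_of_mem _ hl)
    have ha := h a List.mem_cons_self
    have hok : J2.O.ok (Ico.invCode a) = true := Ico.inv_ok ⟨a, ha⟩
    refine ⟨J2.O.ok_mul _ _ hok h1, ?_⟩
    rw [List.map_cons, List.prod_cons, Subgroup.coe_mul, h2, invN, dif_pos ha, iev, J2.O.val_mul _ _ hok h1]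
    rfl

theorem letWit_lt {l a : ℕ} (h : a ∈ letWit l) : a < 315 := by
  have key : ∀ b ∈ Data.wit.getD (l / 2) [], b < 315 := by
    intro b hb
    by_cases hk : l / 2 < Data.wit.length
    · rw [List.getD_eq_getElem _ _ hk] at hb
      have := List.all_eq_true.1 (List.all_eq_true.1 wit_checks.1 _ (List.getElem_mem hk)) b hb
      simpa using this
    · rw [List.getD_eq_default _ _ (not_lt.1 hk)] at hb
      simp at hb
  unfold letWit at h
  split_ifs at h
  · exact key a h
  · exact key a (List.mem_reverse.1 h)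

theorem flat_lt (w : List ℕ) : ∀ a ∈ w.flatMap letWit, a < 315 := fun a ha => by
  obtain ⟨l, -, hl⟩ := List.mem_flatMap.1 ha
  exact letWit_lt hl

theorem wg_rel {w : List ℕ} (hw : w ∈ certJ.rels) : ev wg w = 1 := by
  refine Subtype.ext ?_
  obtain ⟨-, h⟩ := iev_spec (flat_lt w)
  rw [ev_wg, h, beq_iff_eq.1 (List.all_eq_true.1 wit_checks.2.2.1 w hw), J2.O.val_one]
  rfl

/-- The universal group. -/
abbrev GamU := Pres 12 certJ.rels

theorem relC_subJ {w : List ℕ} (hw : w ∈ Data.relC) : w ∈ certJ.rels := by simp [certJ, hw]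

theorem relC_subK {w : List ℕ} (hw : w ∈ Data.relC) : w ∈ certK.rels := by simp [certK, hw]

theorem subs_lt {L : ℕ} (hL : L ∈ [0, 1, 2, 3, 4, 5, 6, 7, 8, 9]) : L < 10 := by
  simp only [List.mem_cons, List.not_mem_nil, or_false] at hL
  omega

theorem gamU_card_le : Finite GamU ∧ Nat.card GamU ≤ 604800 := by
  have hrel : ∀ w ∈ Data.relC, ev (pg 12 certJ.rels) w = 1 := fun w hw => ev_pg (relC_subJ hw)
  obtain ⟨hfin, hle⟩ := card_closure_le hrel
  obtain ⟨h1, h2⟩ := Cert.card_le hfin Data.liveJ _ _ goal_checksJ.1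
    (validJ (g := pg 12 certJ.rels) (fun w hw => ev_pg hw)
      fun L hL => Subgroup.subset_closure ⟨L, subs_lt hL, rfl⟩) closure_pg
  refine ⟨h1, h2.trans ?_⟩
  rw [goal_checksJ.2.1]
  omega

/-- The map of the universal group onto the group on 100 points. -/
noncomputable def toPerm : GamU →* ↥J2.grpJ2 := presHom wg (fun _ hw => wg_rel hw) wit_checks.2.2.2.2.1

theorem toPerm_bijective : Function.Bijective toPerm := by
  obtain ⟨hfin, hle⟩ := gamU_card_le
  have : Finite ↥J2.grpJ2 := inferInstance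
  have hsurj : Function.Surjective toPerm := by
    rw [← MonoidHom.range_eq_top, eq_top_iff, ← Ico.invEl_closure, Subgroup.closure_le]
    rintro _ ⟨k, rfl⟩
    obtain ⟨hk, hlt⟩ : (k : ℕ) < Data.genW.length ∧ Ico.genLine k < 315 :=
      ⟨by have : Data.genW.length = 4 := rfl; omega, (Ico.genLine_lt k.isLt).1⟩
    refine ⟨ev (pg 12 certJ.rels) Data.genW[(k : ℕ)], ?_⟩
    rw [toPerm, presHom_ev _ _ _ fun l hl => lettersB_mem wit_checks.2.1 (List.getElem_mem hk) hl]
    refine Subtype.ext ?_
    have hok : J2.O.ok (Ico.invCode (Ico.genLine k)) = true := Ico.inv_ok ⟨_, hlt⟩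
    have e := beq_iff_eq.1 (List.all_eq_true.1 wit_checks.2.2.2.1 k (List.mem_range.2 k.isLt))
    rw [List.getD_eq_getElem _ _ hk] at e
    rw [ev_wg, (iev_spec (flat_lt _)).2, e, J2.O.val_mul _ _ hok J2.O.ok_one, J2.O.val_one, mul_one]
    rfl
  refine (Nat.bijective_iff_surjective_and_card _).2 ⟨hsurj, le_antisymm ?_ ?_⟩
  · rw [J2.card_grpJ2]; exact hle
  · exact Nat.card_le_card_of_surjective _ hsurj

variable {G : Type*} [Group G] [Finite G] {f : ℕ → G}

/-- The recognition. -/
theorem iso_of_relations (hcard : Nat.card G = 604800) (hf : ∀ w ∈ certJ.rels, ev f w = 1) (hne : f 0 ≠ 1) :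
    Nonempty (G ≃* Cfsg.Spor.J2) := by
  obtain ⟨e⟩ := Ico.j2_equiv
  let u : GamU ≃* Cfsg.Spor.J2 := (MulEquiv.ofBijective toPerm toPerm_bijective).trans e.symm
  have : IsSimpleGroup Cfsg.Spor.J2 := Ico.j2_simple
  let h : Cfsg.Spor.J2 →* G := (presHom f hf wit_checks.2.2.2.2.1).comp u.symm.toMonoidHom
  have hker : h.ker = ⊥ := by
    refine (Subgroup.Normal.eq_bot_or_eq_top inferInstance).resolve_right fun htop => hne ?_
    have hm : u (pg 12 certJ.rels 0) ∈ h.ker := htop ▸ Subgroup.mem_top _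
    rw [MonoidHom.mem_ker] at hm
    rw [← presHom_pg f hf wit_checks.2.2.2.2.1 (show 0 < 12 by norm_num)]
    simpa [h] using hm
  exact ⟨(MulEquiv.ofBijective h ((Nat.bijective_iff_injective_and_card _).2
    ⟨(MonoidHom.ker_eq_bot_iff _).1 hker, by rw [Ico.card_j2, hcard]⟩)).symm⟩

/-- The collapsing case. -/
theorem mem_of_relationsK (hf : ∀ w ∈ certK.rels, ev f w = 1) {H : Subgroup G}
    (hH : ∀ i < 10, f i ∈ H) : f 10 ∈ H := by
  have h := validK hf (fun L hL => hH L (subs_lt hL)) 2370 (by norm_num)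
  obtain ⟨-, -, hs, hd, hl⟩ := goal_checksJ
  rw [Cert.Valid, hs, hd, hl, Cert.ev_letter (show 10 < certK.ngen by decide)] at h
  rwa [Cert.rep, dif_neg (Nat.not_lt_zero _), one_mul, inv_one, mul_one] at h

end CfsgLib.JTwoUniq
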