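import Cfsg.Agent.Lib.JTwoUniq.Tau
import Cfsg.Agent.Lib.JTwoUniq.Universal

/-!
The relations of the certificates hold for the extended coordinates.
-/

set_option autoImplicit false
set_option maxRecDepth 100000

namespace CfsgLib.JTwoUniq

open Coset CfsgLib.HJType Subgroup

variable {G : Type*} [Group G]

/-- The coordinates extended by `τ` and its conjugate under `g`. -/
def ext12 (f : ℕ → G) (τ : G) (i : ℕ) : G :=
  if i < 10 then f i else if i = 10 then τ else if i = 11 then f 8 * τ * f 8 else 1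

theorem g_checks : pev [16, 0, 16] = pev [0] ∧ pev [16, 2, 16] = pev [4] ∧ pev [16, 4, 16] = pev [2] ∧
    pev [16, 0, 2, 16] = pev [0, 4] ∧ pev [16, 12, 12, 16] = pev [12] ∧ pev [16, 12, 16] = pev [12, 12] ∧
    pev [16, 2, 6, 16] = pev [4, 6] ∧ pev ([16] ++ imgW ++ [16]) = pev [2, 10, 12, 16, 14, 18] ∧
    pev [16, 16] = pev [] ∧ pev [18, 18] = pev [] ∧ pev [2, 2] = pev [] ∧ pev [0, 0] = pev [] ∧
    pev [4, 4] = pev [] ∧ pev [12, 12, 12] = pev [] ∧ pev [0, 2] = pev [2, 0] := by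
  refine ⟨?_, ?_, ?_, ?_, ?_, ?_, ?_, ?_, ?_, ?_, ?_, ?_, ?_, ?_, ?_⟩ <;> decide +kernel

variable [Finite G] {z : G} {Q B : Subgroup G}

theorem rel_common {f : ℕ → G} (c : Coords z Q f) {τ : G} (d : TauData B f τ) :
    ∀ w ∈ Data.relC ++ Data.relD ++ Data.relT, ev (ext12 f τ) w = 1 := by
  intro w hw
  rcases List.mem_append.1 hw with hw | hw
  · have hl : ∀ l ∈ w, l / 2 < 10 := fun l hl => by
      rcases List.mem_append.1 hw with hw | hw
      exacts [lettersB_mem rel_checks.1 hw hl, lettersB_mem derived_checks.1 hw hl]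
    rw [ev_congr (g' := f) fun l hll => by simp [ext12, hl l hll]]
    rcases List.mem_append.1 hw with hw | hw
    exacts [c.rel w hw, derived c.rel hw]
  obtain ⟨kg0, kg1, kg2, kg3, kg4, kg5, kg6, kg7, kgg, ktt, kxx, kzz, kx1, kss, kzx⟩ := g_checks
  have tr : ∀ {v w : List ℕ}, (∀ l ∈ v, l < 20) → (∀ l ∈ w, l < 20) → pev v = pev w → ev f v = ev f w :=
    fun hv hw h => transfer c.rel hv hw h
  set g := f 8 with hg
  have g2 : g * g = 1 := by simpa [hg, ev, lval] using tr (by simp) (by simp) kgg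
  have gi : g⁻¹ = g := inv_eq_of_mul_eq_one_right g2
  have t2 : f 9 * f 9 = 1 := by simpa [ev, lval] using tr (by simp) (by simp) ktt
  have ti : (f 9)⁻¹ = f 9 := inv_eq_of_mul_eq_one_right t2
  have xi : (f 1)⁻¹ = f 1 := inv_eq_of_mul_eq_one_right (by simpa [ev, lval] using tr (by simp) (by simp) kxx)
  have zi : (f 0)⁻¹ = f 0 := inv_eq_of_mul_eq_one_right (by simpa [ev, lval] using tr (by simp) (by simp) kzz)
  have yi : (f 2)⁻¹ = f 2 := inv_eq_of_mul_eq_one_right (by simpa [ev, lval] using tr (by simp) (by simp) kx1)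
  have s3 : f 6 * (f 6 * f 6) = 1 := by simpa [ev, lval] using tr (by simp) (by simp) kss
  have g0 : g * f 0 * g = f 0 := by simpa [hg, ev, lval, mul_assoc] using tr (by simp) (by simp) kg0
  have g1 : g * f 1 * g = f 2 := by simpa [hg, ev, lval, mul_assoc] using tr (by simp) (by simp) kg1
  have gx1 : g * f 2 * g = f 1 := by simpa [hg, ev, lval, mul_assoc] using tr (by simp) (by simp) kg2
  have gzx : g * (f 0 * f 1) * g = f 0 * f 2 := by simpa [hg, ev, lval, mul_assoc] using tr (by simp) (by simp) kg3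
  have gss : g * (f 6 * f 6) * g = f 6 := by simpa [hg, ev, lval, mul_assoc] using tr (by simp) (by simp) kg4
  have gs : g * f 6 * g = f 6 * f 6 := by simpa [hg, ev, lval, mul_assoc] using tr (by simp) (by simp) kg5
  have gy : g * (f 1 * f 3) * g = f 2 * f 3 := by simpa [hg, ev, lval, mul_assoc] using tr (by simp) (by simp) kg6
  have gimg : g * ev f imgW * g = ev f [2, 10, 12, 16, 14, 18] := by
    have h := tr (v := [16] ++ imgW ++ [16]) (by decide +kernel) (by simp) kg7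
    rw [← h, ev_append, ev_append, show ev f [16] = g from ev_singleton f 8]
  have hS : τ * f 6 * τ⁻¹ = f 6 := by rw [d.commS, mul_inv_cancel_right]
  have hSS : τ * (f 6 * f 6) * τ⁻¹ = f 6 * f 6 := by
    rw [show τ * (f 6 * f 6) * τ⁻¹ = τ * f 6 * τ⁻¹ * (τ * f 6 * τ⁻¹) by group, hS]
  have hT : τ * f 9 * τ⁻¹ = f 9 := by rw [d.commT, mul_inv_cancel_right]
  -- conjugation by the second element of order three
  have hH : ∀ a : G, g * τ * g * a * (g * τ * g)⁻¹ = g * (τ * (g * a * g) * τ⁻¹) * g := fun a => by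
    rw [mul_inv_rev, mul_inv_rev, gi]; group
  simp only [Data.relT, List.mem_cons, List.not_mem_nil, or_false] at hw
  have e : ∀ i, i < 10 → ext12 f τ i = f i := fun i hi => by simp [ext12, hi]
  have e10 : ext12 f τ 10 = τ := rfl
  have e11 : ext12 f τ 11 = g * τ * g := rfl
  rcases hw with rfl | rfl | rfl | rfl | rfl | rfl | rfl | rfl | rfl | rfl | rfl | rfl | rfl | rfl | rfl | rfl |
    rfl | rfl | rfl <;>
    simp only [ev, List.map_cons, List.map_nil, List.prod_cons, List.prod_nil, mul_one, lval, Nat.reduceMod,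
      Nat.reduceDiv, if_true, one_ne_zero, if_false, e10, e11, e 0 (by norm_num), e 1 (by norm_num),
      e 2 (by norm_num), e 3 (by norm_num), e 4 (by norm_num), e 5 (by norm_num), e 6 (by norm_num),
      e 7 (by norm_num), e 8 (by norm_num), e 9 (by norm_num), ← hg]
  · rw [← mul_assoc]; exact d.cube
  · calc g * τ * g * (g⁻¹ * (τ⁻¹ * g)) = g * g := by group
      _ = 1 := g2
  · calc τ * (f 0 * (τ⁻¹ * (f 1)⁻¹)) = τ * f 0 * τ⁻¹ * (f 1)⁻¹ := by group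
      _ = 1 := by rw [d.onZ, mul_inv_cancel]
  · calc τ * (f 1 * (τ⁻¹ * ((f 1)⁻¹ * (f 0)⁻¹))) = τ * f 1 * τ⁻¹ * (f 0 * f 1)⁻¹ := by group
      _ = 1 := by rw [d.onX, mul_inv_cancel]
  · calc τ * (f 6 * (τ⁻¹ * (f 6)⁻¹)) = τ * f 6 * τ⁻¹ * (f 6)⁻¹ := by group
      _ = 1 := by rw [hS, mul_inv_cancel]
  · calc τ * (f 9 * (τ⁻¹ * (f 9)⁻¹)) = τ * f 9 * τ⁻¹ * (f 9)⁻¹ := by group
      _ = 1 := by rw [hT, mul_inv_cancel]
  · calc τ * (f 2 * (f 3 * (τ⁻¹ * ((f 6)⁻¹ * ((f 9)⁻¹ * ((f 6)⁻¹ * ((f 6)⁻¹ * ((f 4)⁻¹ * (f 2)⁻¹))))))))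
        = τ * (f 2 * f 3) * τ⁻¹ * (f 2 * (f 4 * (f 6 * (f 6 * (f 9 * f 6)))))⁻¹ := by group
      _ = 1 := by
        rw [d.onY]
        simp [imgW, ev, lval, mul_assoc]
  · calc f 2 * (τ * (f 2 * (τ * (f 6)⁻¹))) = f 2 * τ * (f 2 * τ) * (f 6)⁻¹ := by group
      _ = 1 := by rw [d.sq, mul_inv_cancel]
  · calc g * τ * g * (f 0 * ((g * τ * g)⁻¹ * (f 2)⁻¹)) = g * τ * g * f 0 * (g * τ * g)⁻¹ * (f 2)⁻¹ := by group
      _ = 1 := by rw [hH, g0, d.onZ, g1, mul_inv_cancel]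
  · calc g * τ * g * (f 2 * ((g * τ * g)⁻¹ * ((f 2)⁻¹ * (f 0)⁻¹)))
        = g * τ * g * f 2 * (g * τ * g)⁻¹ * (f 0 * f 2)⁻¹ := by group
      _ = 1 := by rw [hH, gx1, d.onX, gzx, mul_inv_cancel]
  · calc g * τ * g * (f 6 * (f 6 * ((g * τ * g)⁻¹ * ((f 6)⁻¹ * (f 6)⁻¹))))
        = g * τ * g * (f 6 * f 6) * (g * τ * g)⁻¹ * (f 6 * f 6)⁻¹ := by group
      _ = 1 := by rw [hH, gss, hS, gs, mul_inv_cancel]
  · calc g * τ * g * (g * (f 9 * (g * ((g * τ * g)⁻¹ * (g⁻¹ * ((f 9)⁻¹ * g⁻¹))))))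
        = g * τ * g * (g * f 9 * g) * (g * τ * g)⁻¹ * (g * f 9 * g)⁻¹ := by group
      _ = 1 := by
        rw [hH, show g * (g * f 9 * g) * g = g * g * f 9 * (g * g) by group, g2, one_mul, mul_one, hT,
          mul_inv_cancel]
  · calc g * τ * g * (f 1 * (f 3 * ((g * τ * g)⁻¹ *
          ((f 9)⁻¹ * ((f 7)⁻¹ * (g⁻¹ * ((f 6)⁻¹ * ((f 5)⁻¹ * (f 1)⁻¹))))))))
        = g * τ * g * (f 1 * f 3) * (g * τ * g)⁻¹ * (f 1 * (f 5 * (f 6 * (g * (f 7 * f 9)))))⁻¹ := by group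
      _ = 1 := by
        rw [hH, gy, d.onY, gimg]
        simp [ev, lval, hg, mul_assoc]
  · calc g * τ * g * (g * τ * g * (g * τ * g)) = g * (τ * (g * g) * τ * (g * g) * τ) * g := by group
      _ = 1 := by rw [g2, mul_one, mul_one, d.cube, mul_one, g2]
  · calc τ * (f 6 * (τ⁻¹ * (f 6)⁻¹)) = τ * f 6 * τ⁻¹ * (f 6)⁻¹ := by group
      _ = 1 := by rw [hS, mul_inv_cancel]
  · calc g * τ * g * (f 6 * ((g * τ * g)⁻¹ * (f 6)⁻¹)) = g * τ * g * f 6 * (g * τ * g)⁻¹ * (f 6)⁻¹ := by group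
      _ = 1 := by rw [hH, gs, hSS, gss, mul_inv_cancel]
  · calc τ * (f 9 * (τ⁻¹ * f 9)) = τ * f 9 * τ⁻¹ * f 9 := by group
      _ = 1 := by rw [hT, t2]
  · calc τ * (f 0 * (τ⁻¹ * f 1)) = τ * f 0 * τ⁻¹ * f 1 := by group
      _ = 1 := by rw [d.onZ]; nth_rw 2 [← xi]; exact mul_inv_cancel _
  · calc τ * (f 1 * (τ⁻¹ * (f 1 * f 0))) = τ * f 1 * τ⁻¹ * (f 1 * f 0) := by group
      _ = 1 := by
        rw [d.onX, ← mul_inv_cancel (f 0 * f 1), mul_inv_rev, xi, zi]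

theorem rel_last {f : ℕ → G} {τ : G} (w : List ℕ) (u : G) (ht : f 9 * f 9 = 1)
    (hw : ev (ext12 f τ) w = u * f 9 * u⁻¹ * f 9) (hu : u * f 9 = f 9 * u) : ev (ext12 f τ) w = 1 := by
  rw [hw, hu, mul_inv_cancel_right, ht]

theorem ev_wordJ (f : ℕ → G) (τ : G) :
    ev (ext12 f τ) Data.wordJ = (f 8 * τ * f 8 * (τ * f 2) * (f 8 * τ * f 8)⁻¹) ^ 3 * f 9 *
      ((f 8 * τ * f 8 * (τ * f 2) * (f 8 * τ * f 8)⁻¹) ^ 3)⁻¹ * f 9 := by
  simp only [Data.wordJ, ev, List.map_cons, List.map_nil, List.prod_cons, List.prod_nil, mul_one, lval,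
    Nat.reduceMod, Nat.reduceDiv, if_true, one_ne_zero, if_false]
  rw [show ext12 f τ 11 = f 8 * τ * f 8 from rfl, show ext12 f τ 10 = τ from rfl, show ext12 f τ 2 = f 2 from rfl,
    show ext12 f τ 9 = f 9 from rfl]
  generalize f 8 * τ * f 8 = h
  simp [pow_succ, mul_assoc]

theorem ev_wordK (f : ℕ → G) (τ : G) :
    ev (ext12 f τ) Data.wordK = (f 8 * τ * f 8 * (τ⁻¹ * f 2) * (f 8 * τ * f 8)⁻¹) ^ 3 * f 9 *
      ((f 8 * τ * f 8 * (τ⁻¹ * f 2) * (f 8 * τ * f 8)⁻¹) ^ 3)⁻¹ * f 9 := by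
  simp only [Data.wordK, ev, List.map_cons, List.map_nil, List.prod_cons, List.prod_nil, mul_one, lval,
    Nat.reduceMod, Nat.reduceDiv, if_true, one_ne_zero, if_false]
  rw [show ext12 f τ 11 = f 8 * τ * f 8 from rfl, show ext12 f τ 10 = τ from rfl, show ext12 f τ 2 = f 2 from rfl,
    show ext12 f τ 9 = f 9 from rfl]
  generalize f 8 * τ * f 8 = h
  simp [pow_succ, mul_assoc]

end CfsgLib.JTwoUniq
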