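import Mathlib

/-!
A statement about six points: one of two elements fixes the base point.
-/

set_option autoImplicit false
set_option maxRecDepth 100000
set_option synthInstance.maxSize 4096
set_option synthInstance.maxHeartbeats 400000

namespace CfsgLib.JTwoUniq

theorem six_core : ∀ Z : Equiv.Perm (Fin 6), Z 0 = 0 → Z ≠ 1 → Z * Z = 1 →
    ∀ T : Equiv.Perm (Fin 6), T 0 = 0 → T * (T * T) = 1 → T * Z * T⁻¹ ≠ Z →
      Z * (T * Z * T⁻¹) = T * Z * T⁻¹ * Z → T * (T * Z * T⁻¹) * T⁻¹ = Z * (T * Z * T⁻¹) →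
    ∀ X : Equiv.Perm (Fin 6), X 0 ≠ 0 → X * X = 1 → Z * X = X * Z →
      T * Z * T⁻¹ * X = Z * (X * (T * Z * T⁻¹)) → X * T * (X * T) = 1 →
    ∀ p : Fin 6, Z p ≠ p → Z (X p) = p → T (X p) = p ∨ T⁻¹ (X p) = p := by
  decide +kernel

theorem six_points (Z : Equiv.Perm (Fin 6)) (hz0 : Z 0 = 0) (hz1 : Z ≠ 1) (hz2 : Z * Z = 1)
    (T : Equiv.Perm (Fin 6)) (ht0 : T 0 = 0) (ht3 : T * (T * T) = 1) (hne : T * Z * T⁻¹ ≠ Z)
    (hc : Z * (T * Z * T⁻¹) = T * Z * T⁻¹ * Z) (hcyc : T * (T * Z * T⁻¹) * T⁻¹ = Z * (T * Z * T⁻¹))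
    (X : Equiv.Perm (Fin 6)) (hx0 : X 0 ≠ 0) (hx2 : X * X = 1) (hzx : Z * X = X * Z)
    (hanti : T * Z * T⁻¹ * X = Z * (X * (T * Z * T⁻¹))) (hxt : X * T * (X * T) = 1)
    (H : Equiv.Perm (Fin 6)) (_h3 : H * (H * H) = 1) (hHZ : H * Z * H⁻¹ = X) (hHX : H * X * H⁻¹ = Z * X) :
    (H * (T * X) * H⁻¹) 0 = 0 ∨ (H * (T⁻¹ * X) * H⁻¹) 0 = 0 := by
  have key := six_core Z hz0 hz1 hz2 T ht0 ht3 hne hc hcyc X hx0 hx2 hzx hanti hxt (H⁻¹ 0) (fun h => hx0 ?_) ?_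
  · simp only [Equiv.Perm.mul_apply]
    rcases key with h | h
    · exact Or.inl (by rw [h]; exact H.apply_symm_apply 0)
    · exact Or.inr (by rw [h]; exact H.apply_symm_apply 0)
  · rw [← hHZ, Equiv.Perm.mul_apply, Equiv.Perm.mul_apply, h]
    exact H.apply_symm_apply 0
  · have e : H * (Z * X) * H⁻¹ = Z := by
      calc H * (Z * X) * H⁻¹ = (H * Z * H⁻¹) * (H * X * H⁻¹) := by group
        _ = X * (Z * X) := by rw [hHZ, hHX]
        _ = Z * (X * X) := by rw [← mul_assoc, ← hzx, mul_assoc]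
        _ = Z := by rw [hx2, mul_one]
    have h0 : H (Z (X (H⁻¹ 0))) = 0 := by
      have := congrArg (fun P : Equiv.Perm (Fin 6) => P 0) e
      simpa [Equiv.Perm.mul_apply, hz0] using this
    exact H.injective (h0.trans (H.apply_symm_apply 0).symm)

end CfsgLib.JTwoUniq
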