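import Cfsg.Agent.Lib.JTwoUniq.Relations
import Cfsg.Agent.Lib.JTwoUniq.SixPerm
import Cfsg.Agent.Lib.HJType.Three

/-!
The six cosets of `⟨σ⟩ × B` in the centralizer of `σ` give the last relation.
-/

set_option autoImplicit false
set_option linter.style.haveILetI false
set_option maxRecDepth 100000
set_option synthInstance.maxSize 512
set_option synthInstance.maxHeartbeats 200000

namespace CfsgLib.JTwoUniq

open Coset CfsgLib.HJType Subgroup

theorem six_checks : pev [12, 4] = pev [4, 12] ∧ pev [12, 16] = pev [16, 12, 12] ∧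
    pev [12, 0] = pev [0, 12] ∧ pev [12, 2] = pev [2, 12] ∧ pev [4, 4] = pev [] ∧ pev [0, 4] = pev [4, 0] ∧
    pev [2, 4] = pev [0, 4, 2] ∧ pev [16, 0, 16] = pev [0] ∧ pev [16, 2, 16] = pev [4] ∧
    pev [16, 4, 16] = pev [2] ∧ pev [16, 0, 2, 16] = pev [0, 4] ∧ pev [16, 16] = pev [] ∧
    pev [2, 4] ≠ pev [4, 2] ∧ pev [18, 18] = pev [] ∧ pev [12, 12, 12] = pev [] ∧ pev [12] ≠ pev [] := by
  refine ⟨?_, ?_, ?_, ?_, ?_, ?_, ?_, ?_, ?_, ?_, ?_, ?_, ?_, ?_, ?_, ?_⟩ <;> decide +kernel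

variable {G : Type*} [Group G] [Finite G] {z t : G} {Q V B K : Subgroup G}

theorem a5_invol_comm : ∀ u v w : alternatingGroup (Fin 5), u * u = 1 → u ≠ 1 → v * u = u * v →
    w * u = u * w → v * w = w * v := by decide +kernel

theorem cube_comm (n : NData z t Q V B K) {σ : G} (hσ : σ ∈ K) (h3 : σ * σ * σ = 1) {v : G} (hv : v ∈ V)
    {k b : G} (hk : k ∈ zpowers σ) (hb : b ∈ B) : (k * b) ^ 3 * v = v * (k * b) ^ 3 := by
  have hkK : k ∈ K := zpowers_le.2 hσ hk
  have hk3 : k ^ 3 = 1 := by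
    obtain ⟨i, rfl⟩ := mem_zpowers_iff.1 hk
    rw [← zpow_natCast, ← zpow_mul, mul_comm, zpow_mul,
      show σ ^ ((3 : ℕ) : ℤ) = 1 by rw [zpow_natCast, pow_three, ← mul_assoc, h3], one_zpow]
  rw [Commute.mul_pow (show Commute k b from n.hKB k hkK b hb), hk3, one_mul]
  exact (n.dd.hcomm v hv _ (pow_mem hb 3)).symm

theorem last_relation (n : NData z t Q V B K) {f : ℕ → G} (c : Coords z Q f) (h6 : f 6 ∈ K) (h9 : f 9 ∈ V)
    (h1 : f 1 ∈ B) {τ : G} (d : TauData B f τ) :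
    ev (ext12 f τ) Data.wordJ = 1 ∨ ev (ext12 f τ) Data.wordK = 1 := by
  classical
  have st := n.dd.pr.st
  have hH := st.hH
  obtain ⟨k64, k68, k60, k61, k22, k02, k12, kg0, kg1, kg2, kg3, kgg, kne, k99, k666, k6ne⟩ := six_checks
  have tr : ∀ {v w : List ℕ}, (∀ l ∈ v, l < 20) → (∀ l ∈ w, l < 20) → pev v = pev w → ev f v = ev f w :=
    fun hv hw h => transfer c.rel hv hw h
  set σ := f 6 with hσ
  set g := f 8 with hg
  have h0 : f 0 = z := c.f0
  have g2 : g * g = 1 := by simpa [hg, ev, lval] using tr (by simp) (by simp) kgg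
  have gi : g⁻¹ = g := inv_eq_of_mul_eq_one_right g2
  have x2 : f 2 * f 2 = 1 := by simpa [ev, lval] using tr (by simp) (by simp) k22
  have sx : σ * f 2 = f 2 * σ := by simpa [hσ, ev, lval] using tr (by simp) (by simp) k64
  have sg : σ * g = g * (σ * σ) := by simpa [hσ, hg, ev, lval] using tr (by simp) (by simp) k68
  have s0 : σ * f 0 = f 0 * σ := by simpa [hσ, ev, lval] using tr (by simp) (by simp) k60
  have zx : f 0 * f 2 = f 2 * f 0 := by simpa [ev, lval] using tr (by simp) (by simp) k02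
  have xx : f 1 * f 2 = f 0 * (f 2 * f 1) := by simpa [ev, lval] using tr (by simp) (by simp) k12
  have g0 : g * f 0 * g = f 0 := by simpa [hg, ev, lval, mul_assoc] using tr (by simp) (by simp) kg0
  have g1 : g * f 1 * g = f 2 := by simpa [hg, ev, lval, mul_assoc] using tr (by simp) (by simp) kg1
  have gx : g * f 2 * g = f 1 := by simpa [hg, ev, lval, mul_assoc] using tr (by simp) (by simp) kg2
  have gzx : g * (f 0 * f 1) * g = f 0 * f 2 := by simpa [hg, ev, lval, mul_assoc] using tr (by simp) (by simp) kg3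
  have t2 : f 9 * f 9 = 1 := by simpa [ev, lval] using tr (by simp) (by simp) k99
  have s3 : σ * σ * σ = 1 := by simpa [hσ, ev, lval, mul_assoc] using tr (by simp) (by simp) k666
  have hσ1 : σ ≠ 1 := fun h => k6ne (c.code_eq hH (by simp) (by simp) (by simpa [hσ, ev, lval] using h))
  have hσo : orderOf σ = 3 := by
    haveI : Fact (Nat.Prime 3) := ⟨Nat.prime_three⟩
    exact orderOf_eq_prime (by rw [pow_three, ← mul_assoc, s3]) hσ1
  obtain ⟨σ', ρ, T⟩ := n.exists_tData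
  have T' : TData z t Q V B K σ ρ := ⟨n, h6, hσo, T.hρ, T.hρo⟩
  set X := centralizer ({σ} : Set G) with hX
  have mX : ∀ {a : G}, a * σ = σ * a → a ∈ X := fun h => mem_centralizer_singleton_iff.2 h
  have hBX : B ≤ X := fun b hb => mX (n.hKB σ h6 b hb).symm
  have hσX : zpowers σ ≤ X := zpowers_le.2 (mX rfl)
  -- the subgroup `⟨σ⟩ × B`
  have hkc : ∀ k ∈ zpowers σ, ∀ b ∈ B, k * b = b * k := fun k hk b hb => n.hKB k (zpowers_le.2 h6 hk) b hb
  let φ : ↥(zpowers σ) × ↥B →* ↥X :=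
    { toFun := fun p => ⟨(p.1 : G) * p.2, mul_mem (hσX p.1.2) (hBX p.2.2)⟩
      map_one' := Subtype.ext (by simp)
      map_mul' := fun p q => Subtype.ext (by
        show (p.1 : G) * q.1 * ((p.2 : G) * q.2) = (p.1 : G) * p.2 * ((q.1 : G) * q.2)
        calc (p.1 : G) * q.1 * ((p.2 : G) * q.2) = (p.1 : G) * ((q.1 : G) * p.2) * q.2 := by group
          _ = (p.1 : G) * ((p.2 : G) * q.1) * q.2 := by rw [hkc _ q.1.2 _ p.2.2]
          _ = _ := by group) }
  have hφ : Function.Injective φ := by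
    rintro ⟨⟨a, ha⟩, ⟨b, hb⟩⟩ ⟨⟨a', ha'⟩, ⟨b', hb'⟩⟩ h
    have h' : a * b = a' * b' := congrArg Subtype.val h
    have e : a'⁻¹ * a = b' * b⁻¹ := by
      rw [eq_mul_inv_iff_mul_eq, mul_assoc, h']; group
    have h1' : a'⁻¹ * a = 1 := n.hKinf _ (zpowers_le.2 h6 (mul_mem (inv_mem ha') ha))
      (e ▸ mul_mem hb' (inv_mem hb))
    obtain rfl : a' = a := inv_mul_eq_one.1 h1'
    exact Prod.ext rfl (Subtype.ext (mul_left_cancel h'))
  set M := φ.range with hM
  obtain ⟨eB⟩ := n.dd.hB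
  have hMc : Nat.card M = 180 := by
    rw [hM, ← Nat.card_congr (MonoidHom.ofInjective hφ).toEquiv, Nat.card_prod, Nat.card_zpowers, hσo,
      Nat.card_congr eB.toEquiv, a5_card]
  have h6i : Nat.card (↥X ⧸ M) = 6 := by
    have h := card_eq_card_quotient_mul_card_subgroup M
    rw [hMc, T'.σ_card] at h
    omega
  let e0 : (↥X ⧸ M) ≃ Fin 6 := (Nat.equivFinOfCardPos (by omega : Nat.card (↥X ⧸ M) ≠ 0)).trans (finCongr h6i)
  let e : (↥X ⧸ M) ≃ Fin 6 := e0.trans (Equiv.swap (e0 ((1 : ↥X) : ↥X ⧸ M)) 0)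
  have he : e ((1 : ↥X) : ↥X ⧸ M) = 0 := by simp [e]
  let π : ↥X →* Equiv.Perm (Fin 6) :=
    (Equiv.permCongrHom e).toMonoidHom.comp (MulAction.toPermHom ↥X (↥X ⧸ M))
  have hfix : ∀ a : ↥X, π a 0 = 0 ↔ a ∈ M := by
    intro a
    have : π a 0 = e (a • ((1 : ↥X) : ↥X ⧸ M)) := by
      simp only [π, MonoidHom.comp_apply, MulEquiv.coe_toMonoidHom, Equiv.permCongrHom_coe,
        Equiv.permCongr_apply, MulAction.toPermHom_apply, MulAction.toPerm_apply]
      rw [← he, Equiv.symm_apply_apply]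
    rw [this, ← he, e.injective.eq_iff, show a • ((1 : ↥X) : ↥X ⧸ M) = ((a * 1 : ↥X) : ↥X ⧸ M) from rfl, mul_one,
      QuotientGroup.eq, mul_one, inv_mem_iff]
  have memM : ∀ {a : G} (ha : a ∈ X), (⟨a, ha⟩ : ↥X) ∈ M ↔ ∃ k ∈ zpowers σ, ∃ b ∈ B, k * b = a := by
    intro a ha
    refine ⟨?_, fun ⟨k, hk, b, hb, h⟩ => ⟨(⟨k, hk⟩, ⟨b, hb⟩), Subtype.ext h⟩⟩
    rintro ⟨⟨k, b⟩, h⟩
    exact ⟨k, k.2, b, b.2, congrArg Subtype.val h⟩
  have inB : ∀ {b : G} (hb : b ∈ B), π ⟨b, hBX hb⟩ 0 = 0 := fun {b} hb =>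
    (hfix _).2 ((memM _).2 ⟨1, one_mem _, b, hb, one_mul b⟩)
  have hzB : f 0 ∈ B := h0 ▸ n.dd.hzB
  -- `x₁` is outside
  have hx2X : f 2 ∈ X := mX sx.symm
  have hx2M : ¬ π ⟨f 2, hx2X⟩ 0 = 0 := by
    rw [hfix, memM]
    rintro ⟨k, hk, b, hb, h⟩
    have hk2 : k * k = 1 ∧ b * b = 1 := by
      have hp : (k * k) * (b * b) = 1 := by
        calc k * k * (b * b) = k * (k * b) * b := by group
          _ = k * (b * k) * b := by rw [hkc k hk b hb]
          _ = (k * b) * (k * b) := by group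
          _ = 1 := by rw [h, x2]
      have : k * k = (b * b)⁻¹ := eq_inv_of_mul_eq_one_left hp
      have h1' := n.hKinf _ (zpowers_le.2 h6 (mul_mem hk hk)) (this ▸ inv_mem (mul_mem hb hb))
      exact ⟨h1', by rwa [h1', one_mul] at hp⟩
    have hk1 : k = 1 := by
      have ho : orderOf k ∣ Nat.card (zpowers σ) := Subgroup.orderOf_dvd_natCard _ hk
      rw [Nat.card_zpowers, hσo] at ho
      have h2 : orderOf k ∣ 2 := orderOf_dvd_of_pow_eq_one (by rw [pow_two, hk2.1])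
      exact orderOf_eq_one_iff.1 (Nat.dvd_one.1 (by simpa using Nat.dvd_gcd ho h2))
    rw [hk1, one_mul] at h
    subst h
    -- commuting involutions of `B` centralizing `z`
    have key : ∀ u v w : alternatingGroup (Fin 5), u * u = 1 → u ≠ 1 → v * u = u * v → w * u = u * w →
        v * w = w * v := a5_invol_comm
    have hz1 : (⟨f 0, hzB⟩ : ↥B) ≠ 1 := fun h => st.z_ne (h0 ▸ congrArg Subtype.val h)
    have := key (eB ⟨f 0, hzB⟩) (eB ⟨f 1, h1⟩) (eB ⟨f 2, hb⟩)
      (by rw [← map_mul, ← map_one eB]; exact congrArg eB (Subtype.ext (show f 0 * f 0 = 1 by rw [h0]; exact st.zz)))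
      (fun h => hz1 (eB.injective (h.trans (map_one eB).symm)))
      (by rw [← map_mul, ← map_mul]; exact congrArg eB (Subtype.ext (show f 1 * f 0 = f 0 * f 1 by
        rw [h0]; exact st.zc (c.mem (by norm_num)))))
      (by rw [← map_mul, ← map_mul]; exact congrArg eB (Subtype.ext zx.symm))
    rw [← map_mul, ← map_mul] at this
    have h12 : f 1 * f 2 = f 2 * f 1 := congrArg Subtype.val (eB.injective this)
    exact kne (c.code_eq hH (by simp) (by simp) (by simpa [ev, lval] using h12))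
  -- the six-point statement
  have gσ : ∀ {a : G}, a * σ = σ * a → (g * a * g) * σ = σ * (g * a * g) := by
    intro a ha
    have e1 : g * σ = σ * σ * g := by
      calc g * σ = g * σ * (g * g) := by rw [g2, mul_one]
        _ = g * (σ * g) * g := by group
        _ = _ := by rw [sg]; rw [show g * (g * (σ * σ)) * g = (g * g) * (σ * σ) * g by group, g2, one_mul]
    have ha2 : a * (σ * σ) = σ * σ * a := by
      rw [← mul_assoc, ha, mul_assoc, ha, ← mul_assoc]
    calc g * a * g * σ = g * a * (g * σ) := by group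
      _ = g * (a * (σ * σ)) * g := by rw [e1]; group
      _ = g * (σ * σ) * a * g := by rw [ha2]; group
      _ = σ * g * a * g := by rw [sg]
      _ = σ * (g * a * g) := by group
  have hτX : τ ∈ X := hBX d.mem
  have hhX : g * τ * g ∈ X := mX (gσ d.commS)
  set Z := π ⟨f 0, hBX hzB⟩ with hZdef
  set Tp := π ⟨τ, hτX⟩ with hTdef
  set Xp := π ⟨f 2, hx2X⟩ with hXdef
  set Hp := π ⟨g * τ * g, hhX⟩ with hHdef
  have hx1X : f 1 ∈ X := hBX h1
  have eX0 : Tp * Z * Tp⁻¹ = π ⟨f 1, hx1X⟩ := by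
    rw [hTdef, hZdef, ← map_inv, ← map_mul, ← map_mul]; exact congrArg π (Subtype.ext d.onZ)
  have pc : ∀ {a b : ↥X}, (a : G) = b → π a = π b := fun h => congrArg π (Subtype.ext h)
  have hHZ : Hp * Z * Hp⁻¹ = Xp := by
    rw [hHdef, hZdef, hXdef, ← map_inv, ← map_mul, ← map_mul]
    refine pc ?_
    show g * τ * g * f 0 * (g * τ * g)⁻¹ = f 2
    rw [mul_inv_rev, mul_inv_rev, gi, show g * τ * g * f 0 * (g * (τ⁻¹ * g)) = g * (τ * (g * f 0 * g) * τ⁻¹) * g by group,
      g0, d.onZ, g1]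
  have hZ1 : Z ≠ 1 := by
    intro h
    refine hx2M ?_
    show Xp 0 = 0
    rw [← hHZ, h, mul_one, mul_inv_cancel]; rfl
  have hπσ : π ⟨σ, hσX (mem_zpowers σ)⟩ = 1 := by
    refine Equiv.ext fun i => ?_
    obtain ⟨q, rfl⟩ := e.surjective i
    obtain ⟨b, rfl⟩ := QuotientGroup.mk_surjective q
    simp only [π, MonoidHom.comp_apply, MulEquiv.coe_toMonoidHom, Equiv.permCongrHom_coe,
      Equiv.permCongr_apply, MulAction.toPermHom_apply, MulAction.toPerm_apply, Equiv.symm_apply_apply,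
      Equiv.Perm.one_apply]
    rw [show (⟨σ, hσX (mem_zpowers σ)⟩ : ↥X) • ((b : ↥X) : ↥X ⧸ M) = ((⟨σ, hσX (mem_zpowers σ)⟩ * b : ↥X) : ↥X ⧸ M)
      from rfl, e.injective.eq_iff, QuotientGroup.eq]
    refine (memM (Subgroup.mul_mem _ (inv_mem (Subgroup.mul_mem _ (hσX (mem_zpowers σ)) b.2)) b.2)).2
      ⟨σ⁻¹, inv_mem (mem_zpowers σ), 1, one_mem _, ?_⟩
    have hb : (b : G) * σ = σ * b := mem_centralizer_singleton_iff.1 b.2
    show σ⁻¹ * 1 = (σ * (b : G))⁻¹ * b
    rw [← hb]; group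
  have key := six_points Z (inB hzB) hZ1
    (by rw [hZdef, ← map_mul, ← map_one π]; exact pc (show f 0 * f 0 = 1 by rw [h0]; exact st.zz))
    Tp (inB d.mem)
    (by rw [hTdef, ← map_mul, ← map_mul, ← map_one π]; exact pc (show τ * (τ * τ) = 1 by rw [← mul_assoc]; exact d.cube))
    (by
      rw [eX0]
      intro h
      refine hZ1 ?_
      have h' : π (⟨f 0, hBX hzB⟩ * ⟨f 1, hx1X⟩) = 1 := by
        rw [map_mul, h, ← hZdef, hZdef, ← map_mul, ← map_one π]
        exact pc (show f 0 * f 0 = 1 by rw [h0]; exact st.zz)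
      have hc : Tp * π ⟨f 1, hx1X⟩ * Tp⁻¹ = 1 := by
        rw [← h', hTdef, ← map_inv, ← map_mul, ← map_mul]
        exact pc d.onX
      rw [← h]
      exact conj_eq_one_iff.1 hc)
    (by rw [eX0, hZdef, ← map_mul, ← map_mul]; exact pc (show f 0 * f 1 = f 1 * f 0 by
      rw [h0]; exact (st.zc (c.mem (by norm_num))).symm))
    (by rw [eX0, hTdef, hZdef, ← map_inv, ← map_mul, ← map_mul, ← map_mul]; exact pc d.onX)
    Xp hx2M
    (by rw [hXdef, ← map_mul, ← map_one π]; exact pc x2)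
    (by rw [hZdef, hXdef, ← map_mul, ← map_mul]; exact pc zx)
    (by rw [eX0, hZdef, hXdef, ← map_mul, ← map_mul, ← map_mul]; exact pc xx)
    (by
      rw [hXdef, hTdef, ← map_mul, ← map_mul, ← hπσ]
      exact pc d.sq)
    Hp (by
      rw [hHdef, ← map_mul, ← map_mul, ← map_one π]
      refine pc ?_
      show g * τ * g * (g * τ * g * (g * τ * g)) = 1
      calc g * τ * g * (g * τ * g * (g * τ * g)) = g * (τ * (g * g) * τ * (g * g) * τ) * g := by group
        _ = 1 := by rw [g2, mul_one, mul_one, d.cube, mul_one, g2]) hHZ (by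
      rw [hHdef, hZdef, hXdef, ← map_inv, ← map_mul, ← map_mul, ← map_mul]
      refine pc ?_
      show g * τ * g * f 2 * (g * τ * g)⁻¹ = f 0 * f 2
      rw [mul_inv_rev, mul_inv_rev, gi,
        show g * τ * g * f 2 * (g * (τ⁻¹ * g)) = g * (τ * (g * f 2 * g) * τ⁻¹) * g by group, gx, d.onX, gzx])
  have fin : ∀ u : ↥X, π u 0 = 0 → (u : G) ^ 3 * f 9 * ((u : G) ^ 3)⁻¹ * f 9 = 1 := by
    intro u hu
    obtain ⟨k, hk, b, hb, h⟩ := (memM u.2).1 ((hfix u).1 hu)
    rw [← h, cube_comm n h6 s3 h9 hk hb, mul_inv_cancel_right, t2]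
  rcases key with hk | hk
  · left
    rw [hHdef, hTdef, hXdef, ← map_mul, ← map_mul, ← map_inv, ← map_mul] at hk
    have := fin _ hk
    rw [ev_wordJ]
    exact this
  · right
    rw [hHdef, hTdef, hXdef, ← map_inv, ← map_mul, ← map_mul, ← map_inv, ← map_mul] at hk
    have := fin _ hk
    rw [ev_wordK]
    exact this

end CfsgLib.JTwoUniq
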