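import Cfsg.Agent.Lib.JTwoUniq.Align

/-!
The element of order three of `B` normalising `E`: its action and the relations it satisfies.
-/

set_option autoImplicit false
set_option linter.style.haveILetI false
set_option maxRecDepth 100000
set_option synthInstance.maxSize 512
set_option synthInstance.maxHeartbeats 200000

namespace CfsgLib.JTwoUniq

open Coset CfsgLib.HJType Subgroup

/-- The word of the image of `x₁x₂`. -/
def imgW : List ℕ := [4, 8, 12, 12, 18, 12]

/-- The product of codes. -/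
abbrev mC (A B : ℕ) : ℕ := Golay.PackPerm.mulP 32 A B

/-- The conditions on the image of `x₁x₂`. -/
def imgCond (w : List ℕ) : Bool :=
  (pev (w ++ [2]) == pev ([2] ++ w)) && (pev (w ++ w) == pev [2]) &&
    (pev ([12] ++ w ++ [12] ++ w ++ [12] ++ w) == pev [0]) &&
    (pev ([12, 18] ++ w ++ [18, 12] ++ w ++ [12] ++ w) == pev [0, 2])

/-- The conditions on the image of `x₁x₂`, on codes. -/
def imgC (R : ℕ) : Bool :=
  (mC R (pev [2]) == mC (pev [2]) R) && (mC R R == pev [2]) &&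
    (mC (mC (mC (mC (mC (pev [12]) R) (pev [12])) R) (pev [12])) R == pev [0]) &&
    (mC (mC (mC (mC (mC (pev [12, 18]) R) (pev [18, 12])) R) (pev [12])) R == pev [0, 2])

/-- The conditions on the square of `x₁τ`. -/
def sqCond (w : List ℕ) : Bool :=
  (pev (w ++ [2]) == pev ([2] ++ w)) && (pev (w ++ [12]) == pev ([12] ++ w)) &&
    (pev (w ++ [18]) == pev ([4] ++ imgW ++ [18, 4] ++ w))

/-- The conditions on the square of `x₁τ`, on codes. -/
def sqC (R : ℕ) : Bool :=
  (mC R (pev [2]) == mC (pev [2]) R) && (mC R (pev [12]) == mC (pev [12]) R) &&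
    (mC R (pev [18]) == mC (pev ([4] ++ imgW ++ [18, 4])) R)

theorem cond_eq {w : List ℕ} (h : ∀ l ∈ w, l < 20) : imgCond w = imgC (pev w) ∧ sqCond w = sqC (pev w) := by
  have app : ∀ {u v : List ℕ}, (∀ l ∈ u, l < 20) → (∀ l ∈ v, l < 20) → ∀ l ∈ u ++ v, l < 20 :=
    fun hu hv l hl => (List.mem_append.1 hl).elim (hu l) (hv l)
  have h2 : ∀ l ∈ ([2] : List ℕ), l < 20 := by simp
  have h12 : ∀ l ∈ ([12] : List ℕ), l < 20 := by simp
  have h18 : ∀ l ∈ ([18] : List ℕ), l < 20 := by simp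
  have ha : ∀ l ∈ ([12, 18] : List ℕ), l < 20 := by simp
  have hb : ∀ l ∈ ([18, 12] : List ℕ), l < 20 := by simp
  have hc : ∀ l ∈ [4] ++ imgW ++ [18, 4], l < 20 := by decide +kernel
  constructor
  · unfold imgCond imgC
    rw [pev_app h h2, pev_app h2 h, pev_app h h, pev_app (app (app (app (app h12 h) h12) h) h12) h,
      pev_app (app (app (app h12 h) h12) h) h12, pev_app (app (app h12 h) h12) h, pev_app (app h12 h) h12,
      pev_app h12 h, pev_app (app (app (app (app ha h) hb) h) h12) h, pev_app (app (app (app ha h) hb) h) h12,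
      pev_app (app (app ha h) hb) h, pev_app (app ha h) hb, pev_app ha h]
  · unfold sqCond sqC
    rw [pev_app h h2, pev_app h2 h, pev_app h h12, pev_app h12 h, pev_app h h18, pev_app hc h]

theorem tau_checks : eltC.all (fun R => !imgC R || R == pev imgW) = true ∧
    eltC.all (fun R => !sqC R || R == pev [12] || R == pev [0, 12] || R == pev [2, 12] ||
      R == pev [0, 2, 12]) = true ∧
    pev [4, 6, 4, 6] = pev [0] ∧ pev [12, 4, 6, 12, 4, 6, 12, 4, 6] = pev [0, 2] ∧
    pev [12, 18, 4, 6, 18, 12, 4, 6, 12, 4, 6] = pev [2] ∧ pev [4, 18, 4] = pev [4, 6, 18] ∧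
    pev [4, 0, 2, 4] = pev [2] ∧ pev [4, 2, 4] = pev [0, 2] ∧ pev [12, 4] = pev [4, 12] ∧
    pev [2] ≠ pev [] ∧ pev [2] ≠ pev [0] ∧ pev [4, 4] = pev [] ∧ pev [0, 2] = pev [2, 0] ∧
    pev [4, 2] ≠ pev [2, 4] ∧ pev [2, 2] = pev [] := by
  refine ⟨?_, ?_, ?_, ?_, ?_, ?_, ?_, ?_, ?_, ?_, ?_, ?_, ?_, ?_, ?_⟩ <;> decide +kernel

theorem a5_cycle : ∀ u v : alternatingGroup (Fin 5), u * u = 1 → v * v = 1 → u ≠ 1 → v ≠ 1 → u ≠ v →
    u * v = v * u → ∃ b, b * b * b = 1 ∧ b * u * b⁻¹ = v ∧ b * v * b⁻¹ = u * v := by decide +kernel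

variable {G : Type*} [Group G] [Finite G] {z t : G} {Q V B K : Subgroup G}

/-- The relations of the element of order three. -/
structure TauData (B : Subgroup G) (f : ℕ → G) (τ : G) : Prop where
  mem : τ ∈ B
  cube : τ * τ * τ = 1
  onZ : τ * f 0 * τ⁻¹ = f 1
  onX : τ * f 1 * τ⁻¹ = f 0 * f 1
  onY : τ * (f 2 * f 3) * τ⁻¹ = ev f imgW
  sq : f 2 * τ * (f 2 * τ) = f 6
  commS : τ * f 6 = f 6 * τ
  commT : τ * f 9 = f 9 * τ

theorem exists_tau (n : NData z t Q V B K) {f : ℕ → G} (c : Coords z Q f) (h6 : f 6 ∈ K) (h9 : f 9 ∈ V)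
    (h1 : f 1 ∈ B) : ∃ τ, TauData B f τ := by
  classical
  have st := n.dd.pr.st
  have hH := st.hH
  obtain ⟨-, -, kyy, ks1, ks2, k1t1, k1a, k1b, ksx, kx1, kxz, k44, kzx, knc, k22⟩ := tau_checks
  have tr : ∀ {v w : List ℕ}, (∀ l ∈ v, l < 20) → (∀ l ∈ w, l < 20) → pev v = pev w → ev f v = ev f w :=
    fun hv hw h => transfer c.rel hv hw h
  have hx0 : f 1 * f 1 = 1 := by
    have := tr (v := [2, 2]) (w := []) (by simp) (by simp) k22
    simpa [ev, lval] using this
  have hx1 : f 2 * f 2 = 1 := by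
    have := tr (v := [4, 4]) (w := []) (by simp) (by simp) k44
    simpa [ev, lval] using this
  have hzx : f 0 * f 1 = f 1 * f 0 := by
    have := tr (v := [0, 2]) (w := [2, 0]) (by simp) (by simp) kzx
    simpa [ev, lval] using this
  have h0 : f 0 = z := c.f0
  have hx01 : f 1 ≠ 1 := fun h => kx1 (c.code_eq hH (by simp) (by simp) (by simpa [ev, lval] using h))
  have hx0z : f 1 ≠ f 0 := fun h => kxz (c.code_eq hH (by simp) (by simp) (by simpa [ev, lval] using h))
  obtain ⟨eB⟩ := n.dd.hB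
  have hzB : f 0 ∈ B := h0 ▸ n.dd.hzB
  set u := eB ⟨f 0, hzB⟩ with hu
  set v := eB ⟨f 1, h1⟩ with hv
  obtain ⟨b, hb3, hbu, hbv⟩ := a5_cycle u v
    (by rw [hu, ← map_mul, ← map_one eB]; exact congrArg eB (Subtype.ext (show f 0 * f 0 = 1 by rw [h0]; exact st.zz)))
    (by rw [hv, ← map_mul, ← map_one eB]; exact congrArg eB (Subtype.ext hx0))
    (fun h => st.z_ne (by
      have := congrArg Subtype.val (eB.injective (h.trans (map_one eB).symm))
      simpa [h0] using this))
    (fun h => hx01 (congrArg Subtype.val (eB.injective (h.trans (map_one eB).symm))))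
    (fun h => hx0z (congrArg Subtype.val (eB.injective h)).symm)
    (by rw [hu, hv, ← map_mul, ← map_mul]; exact congrArg eB (Subtype.ext hzx))
  set τ : G := ((eB.symm b : ↥B) : G) with hτ
  have hτB : τ ∈ B := (eB.symm b).2
  have lift : ∀ {p q r : ↥B}, eB p * eB q * (eB p)⁻¹ = eB r → (p : G) * q * (p : G)⁻¹ = r := by
    intro p q r h
    rw [← map_inv, ← map_mul, ← map_mul] at h
    exact congrArg Subtype.val (eB.injective h)
  have hcube : τ * τ * τ = 1 := by
    have := congrArg (fun x => ((eB.symm x : ↥B) : G)) hb3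
    simpa using this
  have hz : τ * f 0 * τ⁻¹ = f 1 := lift (p := eB.symm b) (q := ⟨f 0, hzB⟩) (r := ⟨f 1, h1⟩) (by simp [← hu, ← hv, hbu])
  have hx : τ * f 1 * τ⁻¹ = f 0 * f 1 :=
    lift (p := eB.symm b) (q := ⟨f 1, h1⟩) (r := ⟨f 0 * f 1, mul_mem hzB h1⟩) (by
      rw [show (⟨f 0 * f 1, mul_mem hzB h1⟩ : ↥B) = ⟨f 0, hzB⟩ * ⟨f 1, h1⟩ from rfl, map_mul]
      simp [← hu, ← hv, hbv])
  have h6c : ∀ x ∈ B, x * f 6 = f 6 * x := fun x hx => (n.hKB _ h6 x hx).symm
  have h9c : ∀ x ∈ B, x * f 9 = f 9 * x := fun x hx => (n.dd.hcomm _ h9 x hx).symm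
  have hcS := h6c τ hτB
  have hcT := h9c τ hτB
  have cj : ∀ a a' : G, τ * (a * a') * τ⁻¹ = τ * a * τ⁻¹ * (τ * a' * τ⁻¹) := fun a a' => by group
  have hz0 : τ * (f 0 * f 1) * τ⁻¹ = f 0 := by
    rw [cj, hz, hx, hzx, ← mul_assoc, hx0, one_mul]
  -- the image of `x₁x₂`
  have hcomm : ∀ {a b : G}, a * b = b * a → τ * a * τ⁻¹ * (τ * b * τ⁻¹) = τ * b * τ⁻¹ * (τ * a * τ⁻¹) :=
    fun h => by rw [← cj, ← cj, h]
  have hy0 : (f 2 * f 3) * f 0 = f 0 * (f 2 * f 3) := by
    rw [h0]; exact st.zc (mul_mem (c.mem (by norm_num)) (c.mem (by norm_num)))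
  have hy1 : (f 2 * f 3) * f 1 = f 1 * (f 2 * f 3) := by
    have := tr (v := [4, 6, 2]) (w := [2, 4, 6]) (by simp) (by simp) (by decide +kernel)
    simpa [ev, lval, mul_assoc] using this
  have hy' : τ * (f 2 * f 3) * τ⁻¹ = ev f imgW := by
    set y := f 2 * f 3 with hy
    set y' := τ * y * τ⁻¹ with hy'
    have a1 : y' * f 1 = f 1 * y' := by rw [hy', ← hz]; exact hcomm hy0
    have a0 : y' * f 0 = f 0 * y' := by
      rw [hy', ← hz0]
      exact hcomm (by rw [← mul_assoc, hy0, mul_assoc, hy1, ← mul_assoc])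
    obtain ⟨w, hw, hwy⟩ := c.lift (x := y') (mem_centralizer_singleton_iff.2 (by rw [← h0]; exact a0))
    have hlt : ∀ l ∈ w, l < 20 := lt_twenty le_rfl elt_checks.2.1 hw
    have hS : τ * f 6 * τ⁻¹ = f 6 := by rw [hcS, mul_inv_cancel_right]
    have hT : τ * f 9 * τ⁻¹ = f 9 := by rw [hcT, mul_inv_cancel_right]
    have b2 : y * y = f 0 := by
      have := tr (v := [4, 6, 4, 6]) (w := [0]) (by simp) (by simp) kyy
      simpa [hy, ev, lval, mul_assoc] using this
    have b3 : f 6 * y * f 6 * y * f 6 * y = f 0 * f 1 := by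
      have := tr (v := [12, 4, 6, 12, 4, 6, 12, 4, 6]) (w := [0, 2]) (by simp) (by simp) ks1
      simpa [hy, ev, lval, mul_assoc] using this
    have b4 : f 6 * f 9 * y * f 9 * f 6 * y * f 6 * y = f 1 := by
      have := tr (v := [12, 18, 4, 6, 18, 12, 4, 6, 12, 4, 6]) (w := [2]) (by simp) (by simp) ks2
      simpa [hy, ev, lval, mul_assoc] using this
    have hcond : imgCond w = true := by
      simp only [imgCond, Bool.and_eq_true, beq_iff_eq]
      refine ⟨⟨⟨?_, ?_⟩, ?_⟩, ?_⟩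
      · refine c.code_eq hH ?_ ?_ ?_
        · simpa [or_imp, forall_and] using hlt
        · simpa [or_imp, forall_and] using hlt
        · simp only [ev_append, hwy, show ev f [2] = f 1 from ev_singleton f 1]; exact a1
      · refine c.code_eq hH ?_ (by simp) ?_
        · simpa [or_imp, forall_and] using hlt
        · rw [ev_append, hwy, show ev f [2] = f 1 from ev_singleton f 1, ← hz, ← b2, hy', ← cj]
      · refine c.code_eq hH ?_ (by simp) ?_
        · simpa [or_imp, forall_and] using hlt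
        · simp only [ev_append, hwy, show ev f [12] = f 6 from ev_singleton f 6,
            show ev f [0] = f 0 from ev_singleton f 0]
          conv_rhs => rw [← hz0, ← b3, cj, cj, cj, cj, cj, hS]
      · refine c.code_eq hH ?_ (by simp) ?_
        · simpa [or_imp, forall_and] using hlt
        · simp only [ev_append, hwy, show ev f [12] = f 6 from ev_singleton f 6,
            show ev f [12, 18] = f 6 * f 9 by simp [ev, lval],
            show ev f [18, 12] = f 9 * f 6 by simp [ev, lval],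
            show ev f [0, 2] = f 0 * f 1 by simp [ev, lval]]
          conv_rhs => rw [← hx, ← b4, cj, cj, cj, cj, cj, cj, cj, hS, hT]
          simp only [mul_assoc, hy']
    have h := List.all_eq_true.1 tau_checks.1 _ (pev_mem_eltC hw)
    rw [← (cond_eq hlt).1] at h
    simp only [hcond, Bool.not_true, Bool.false_or, beq_iff_eq] at h
    rw [← hwy]
    exact transfer c.rel hlt (by decide +kernel) h
  -- the square of `x₁τ`
  have hx1z : f 2 * f 0 * f 2 = f 0 := by
    rw [h0, st.zc (c.mem (by norm_num)), mul_assoc, hx1, mul_one]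
  have hx1x : f 2 * f 1 * f 2 = f 0 * f 1 := by
    have := tr (v := [4, 2, 4]) (w := [0, 2]) (by simp) (by simp) k1b
    simpa [ev, lval, mul_assoc] using this
  have hx1zx : f 2 * (f 0 * f 1) * f 2 = f 1 := by
    have := tr (v := [4, 0, 2, 4]) (w := [2]) (by simp) (by simp) k1a
    simpa [ev, lval, mul_assoc] using this
  have hi2 : (f 2)⁻¹ = f 2 := inv_eq_of_mul_eq_one_right hx1
  set q := f 2 * τ with hq
  have cq : ∀ a : G, q * q * a * (q * q)⁻¹ = f 2 * (τ * (f 2 * (τ * a * τ⁻¹) * f 2) * τ⁻¹) * f 2 := fun a => by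
    rw [hq, mul_inv_rev, mul_inv_rev, hi2]; group
  have q0 : q * q * f 0 * (q * q)⁻¹ = f 0 := by rw [cq, hz, hx1x, hz0, hx1z]
  have q1 : q * q * f 1 * (q * q)⁻¹ = f 1 := by rw [cq, hx, hx1zx, hx, hx1zx]
  have q6 : q * q * f 6 * (q * q)⁻¹ = f 6 := by
    have hs : f 2 * f 6 * f 2 = f 6 := by
      have := tr (v := [12, 4]) (w := [4, 12]) (by simp) (by simp) ksx
      simp [ev, lval] at this
      rw [← this, mul_assoc, hx1, mul_one]
    rw [cq, hcS, mul_inv_cancel_right, hs, hcS, mul_inv_cancel_right, hs]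
  have q9 : q * q * f 9 * (q * q)⁻¹ = f 2 * (ev f imgW * f 9) * f 2 := by
    have ht : f 2 * f 9 * f 2 = f 2 * f 3 * f 9 := by
      have := tr (v := [4, 18, 4]) (w := [4, 6, 18]) (by simp) (by simp) k1t1
      simpa [ev, lval, mul_assoc] using this
    rw [cq, hcT, mul_inv_cancel_right, ht, cj, hy', hcT, mul_inv_cancel_right]
  have hqz : q * q ∈ centralizer ({z} : Set G) := mem_centralizer_singleton_iff.2 (by
    rw [← h0]; exact mul_inv_eq_iff_eq_mul.1 q0)
  obtain ⟨w, hw, hwq⟩ := c.lift hqz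
  have hlt : ∀ l ∈ w, l < 20 := lt_twenty le_rfl elt_checks.2.1 hw
  have hcond : sqCond w = true := by
    simp only [sqCond, Bool.and_eq_true, beq_iff_eq]
    refine ⟨⟨?_, ?_⟩, ?_⟩
    · refine c.code_eq hH ?_ ?_ ?_
      · simpa [or_imp, forall_and] using hlt
      · simpa [or_imp, forall_and] using hlt
      · simp only [ev_append, hwq, show ev f [2] = f 1 from ev_singleton f 1]
        exact mul_inv_eq_iff_eq_mul.1 q1
    · refine c.code_eq hH ?_ ?_ ?_
      · simpa [or_imp, forall_and] using hlt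
      · simpa [or_imp, forall_and] using hlt
      · simp only [ev_append, hwq, show ev f [12] = f 6 from ev_singleton f 6]
        exact mul_inv_eq_iff_eq_mul.1 q6
    · refine c.code_eq hH ?_ ?_ ?_
      · simpa [or_imp, forall_and] using hlt
      · simpa [or_imp, forall_and, imgW] using hlt
      · simp only [ev_append, hwq, show ev f [18] = f 9 from ev_singleton f 9,
          show ev f [4] = f 2 from ev_singleton f 2, show ev f [18, 4] = f 9 * f 2 by simp [ev, lval]]
        rw [mul_inv_eq_iff_eq_mul.1 q9]; group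
  have hq' : q * (q * q) * q⁻¹ = q * q := by group
  have qz' : ∀ a, q * a * q⁻¹ = f 2 * (τ * a * τ⁻¹) * f 2 := fun a => by
    rw [hq, mul_inv_rev, hi2]; group
  have hs2 : f 2 * f 6 * f 2 = f 6 := by
    have := tr (v := [12, 4]) (w := [4, 12]) (by simp) (by simp) ksx
    simp [ev, lval] at this
    rw [← this, mul_assoc, hx1, mul_one]
  have qe : ∀ e e' : G, τ * e * τ⁻¹ = e' → q * (e * f 6) * q⁻¹ = f 2 * e' * f 2 * f 6 := fun e e' he => by
    rw [qz', cj, he, hcS, mul_inv_cancel_right]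
    calc f 2 * (e' * f 6) * f 2 = f 2 * e' * (f 2 * f 2) * f 6 * f 2 := by rw [hx1]; group
      _ = f 2 * e' * f 2 * (f 2 * f 6 * f 2) := by group
      _ = _ := by rw [hs2]
  have h := List.all_eq_true.1 tau_checks.2.1 _ (pev_mem_eltC hw)
  rw [← (cond_eq hlt).2] at h
  simp only [hcond, Bool.not_true, Bool.false_or, Bool.or_eq_true, beq_iff_eq] at h
  rcases h with ((h | h) | h) | h <;> have e := transfer c.rel hlt (by simp) h <;> rw [hwq] at e
  · exact ⟨τ, hτB, hcube, hz, hx, hy', e.trans (ev_singleton f 6), hcS, hcT⟩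
  · exfalso
    rw [show ev f [0, 12] = f 0 * f 6 by simp [ev, lval]] at e
    have := qe _ _ hz
    rw [← e, hq', hx1x, e] at this
    exact hx01 (mul_eq_left.1 (mul_right_cancel this).symm)
  · -- replace `τ` by `zτ`
    rw [show ev f [2, 12] = f 1 * f 6 by simp [ev, lval]] at e
    have hzc : ∀ a ∈ centralizer ({z} : Set G), f 0 * a * (f 0)⁻¹ = a := fun a ha => by
      rw [h0, ← st.zc ha, mul_inv_cancel_right]
    have hcz : ∀ a : G, f 0 * τ * a * (f 0 * τ)⁻¹ = f 0 * (τ * a * τ⁻¹) * (f 0)⁻¹ := fun a => by group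
    refine ⟨f 0 * τ, mul_mem hzB hτB, ?_, ?_, ?_, ?_, ?_, ?_, ?_⟩
    · calc f 0 * τ * (f 0 * τ) * (f 0 * τ) = f 0 * (τ * f 0 * τ⁻¹) * (τ * τ * f 0 * (τ * τ)⁻¹) * (τ * τ * τ) := by group
        _ = 1 := by
          rw [hz, hcube, show τ * τ * f 0 * (τ * τ)⁻¹ = τ * (τ * f 0 * τ⁻¹) * τ⁻¹ by group, hz, hx, mul_one,
            show f 0 * f 1 * (f 0 * f 1) = f 0 * (f 1 * f 0) * f 1 by group, ← hzx,
            show f 0 * (f 0 * f 1) * f 1 = f 0 * f 0 * (f 1 * f 1) by group, hx0, h0, st.zz, one_mul]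
    · rw [hcz, hz, hzc _ (c.mem (by norm_num))]
    · rw [hcz, hx, hzc _ (mul_mem (c.mem (by norm_num)) (c.mem (by norm_num)))]
    · rw [hcz, hy', hzc _ (ev_mem fun l hl => c.mem (by
        simp only [imgW, List.mem_cons, List.not_mem_nil, or_false] at hl
        omega))]
    · calc f 2 * (f 0 * τ) * (f 2 * (f 0 * τ))
          = (f 2 * f 0 * f 2) * (f 2 * f 2) * (f 2 * f 2) * (f 2 * (τ * (f 2 * f 0 * f 2) * τ⁻¹) * f 2) * (q * q) := by
            rw [hq, hx1z, hx1]
            calc f 2 * (f 0 * τ) * (f 2 * (f 0 * τ)) = f 2 * f 0 * (f 2 * f 2) * τ * f 2 * f 0 * (f 2 * f 2) * τ := by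
                  rw [hx1]; group
              _ = (f 2 * f 0 * f 2) * f 2 * τ * (f 2 * f 0 * f 2) * f 2 * τ := by group
              _ = _ := by
                rw [hx1z]
                calc f 0 * f 2 * τ * f 0 * f 2 * τ
                    = f 0 * f 2 * (τ * f 0 * τ⁻¹) * (f 2 * f 2) * τ * f 2 * τ := by rw [hx1]; group
                  _ = _ := by group
        _ = f 6 := by
          rw [hx1z, hz, hx1x, e, hx1, mul_one, mul_one, ← mul_assoc (f 0) (f 0), h0, st.zz, one_mul, ← mul_assoc,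
            hx0, one_mul]
    · exact h6c _ (mul_mem hzB hτB)
    · exact h9c _ (mul_mem hzB hτB)
  · exfalso
    rw [show ev f [0, 2, 12] = f 0 * f 1 * f 6 by simp [ev, lval, mul_assoc]] at e
    have := qe _ _ hz0
    rw [← e, hq', hx1z, e] at this
    exact hx01 (mul_eq_left.1 (mul_right_cancel this))

end CfsgLib.JTwoUniq
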